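import Groth.Agent.OmegaPn.Maps
import Groth.Agent.QCoh.Sections

/-!
# The short exact sequences `0 → Z (p+1) → W (p+1) → Z p → 0` and `L_p ≅ Z p`
-/

set_option autoImplicit false
set_option linter.style.haveILetI false
set_option linter.unusedSectionVars false
set_option backward.isDefEq.respectTransparency false
set_option backward.isDefEq.respectTransparency.types false
set_option maxHeartbeats 1200000

universe u

open CategoryTheory CategoryTheory.Limits AlgebraicGeometry TopologicalSpace Opposite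

noncomputable section

namespace Groth.Agent.OmegaPn

open Groth.Agent.AModX Groth.Agent.ExtShX.PnOmegaOver Set.powersetCard

variable (n : ℕ) (A : Type u) [CommRing A]

theorem exists_affine_in_chart {V : (CohB1.ProjSpace n A).Opens} {x : CohB1.ProjSpace n A} (hx : x ∈ V) :
    ∃ (Q : (CohB1.ProjSpace n A).affineOpens) (i : Fin (n + 1)), x ∈ Q.1 ∧ Q.1 ≤ V ∧ Q.1 ≤ DD n A i := by
  obtain ⟨i, hi⟩ := iSup_DD n A x
  obtain ⟨_, ⟨Q, hQ, rfl⟩, hxQ, hQV⟩ := (CohB1.ProjSpace n A).isBasis_affineOpens.exists_subset_of_mem_open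
    (show x ∈ V ⊓ DD n A i.down from ⟨hx, hi⟩) (V ⊓ DD n A i.down).2
  exact ⟨⟨Q, hQ⟩, i.down, hxQ, (hQV : Q ≤ V ⊓ DD n A i.down).trans inf_le_left,
    (hQV : Q ≤ V ⊓ DD n A i.down).trans inf_le_right⟩

variable {M N : (CohB1.ProjSpace n A).Modules}

theorem hom_eq_of_charts (g h : M ⟶ N)
    (H : ∀ (Q : (CohB1.ProjSpace n A).affineOpens) (i : Fin (n + 1)), Q.1 ≤ DD n A i → ∀ x, g.app Q.1 x = h.app Q.1 x) :
    g = h := by
  refine Scheme.Modules.hom_ext _ _ fun V => ?_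
  ext x
  refine eq_of_locally _ _ fun y hy => ?_
  obtain ⟨Q, i, hyQ, hQV, hQi⟩ := exists_affine_in_chart n A hy
  refine ⟨Q.1, hQV, hyQ, ?_⟩
  rw [← app_res, ← app_res]
  exact H Q i hQi _

theorem injective_app_of_mono (g : M ⟶ N) [Mono g] (Q : (CohB1.ProjSpace n A).Opens) :
    Function.Injective (g.app Q) :=
  QCoh.app_injective g Q

/-- Surjectivity on sections inside the charts gives an epimorphism. -/
theorem epi_of_charts (g : M ⟶ N)
    (H : ∀ (Q : (CohB1.ProjSpace n A).affineOpens) (i : Fin (n + 1)), Q.1 ≤ DD n A i → Function.Surjective (g.app Q.1)) :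
    Epi g := by
  refine ⟨fun {T} a b hab => hom_eq_of_charts n A a b fun Q i hi x => ?_⟩
  obtain ⟨y, rfl⟩ := H Q i hi x
  rw [← comp_app_apply, ← comp_app_apply, hab]

theorem δS_comp (p : ℕ) : δS n A (p + 1) ≫ δS n A p = 0 := by
  refine hom_eq_of_charts n A _ _ fun Q i hi x => ?_
  obtain ⟨y, rfl⟩ := (Θ n A (p + 2) hi).surjective x
  rw [comp_app_apply, δS_Θ, δS_Θ, Alg.δ_δ, map_zero, Scheme.Modules.Hom.zero_app]
  rfl

/-- The cycles of the Koszul complex. -/
def Z : ℕ → (CohB1.ProjSpace n A).Modules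
  | 0 => W n A 0
  | p + 1 => kernel (δS n A p)

/-- The inclusion of the cycles. -/
def zι : ∀ p, Z n A p ⟶ W n A p
  | 0 => 𝟙 _
  | p + 1 => kernel.ι (δS n A p)

/-- The differential, onto the cycles. -/
def zq : ∀ p, W n A (p + 1) ⟶ Z n A p
  | 0 => δS n A 0
  | p + 1 => kernel.lift (δS n A p) (δS n A (p + 1)) (δS_comp n A p)

instance mono_zι : ∀ p, Mono (zι n A p)
  | 0 => inferInstanceAs (Mono (𝟙 _))
  | p + 1 => inferInstanceAs (Mono (kernel.ι (δS n A p)))

theorem zq_zι : ∀ p, zq n A p ≫ zι n A p = δS n A p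
  | 0 => Category.comp_id _
  | _ + 1 => kernel.lift_ι _ _ _

theorem ι_zq (p : ℕ) : zι n A (p + 1) ≫ zq n A p = 0 := by
  rw [← cancel_mono (zι n A p), Category.assoc, zq_zι, zero_comp]
  exact kernel.condition _

theorem zι_mem : ∀ (p : ℕ) (Q : (CohB1.ProjSpace n A).affineOpens) (i : Fin (n + 1)) (hi : Q.1 ≤ DD n A i)
    (x : Γ(Z n A p, Q.1)), ∃ y, (δS n A p).app Q.1 y = (zι n A p).app Q.1 x
  | p, Q, i, hi, x => by
    obtain ⟨z, hz⟩ := (Θ n A p hi).surjective ((zι n A p).app Q.1 x)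
    refine ⟨Θ n A (p + 1) hi (Alg.wg (Pi.basisFun Γ(CohB1.ProjSpace n A, Q.1) (Fin (n + 1)) i) p z), ?_⟩
    have he : tf n A hi (Pi.basisFun Γ(CohB1.ProjSpace n A, Q.1) (Fin (n + 1)) i) = 1 := by rw [tf_basis, t_self]
    rw [δS_Θ, ← hz]
    congr 1
    cases p with
    | zero => rw [Alg.δ_wg_zero, he, one_smul]
    | succ q =>
      refine Alg.exact_δ he q z ((Θ n A q hi).injective ?_)
      rw [← δS_Θ, hz, map_zero, ← comp_app_apply,
        show zι n A (q + 1) ≫ δS n A q = 0 from kernel.condition _, Scheme.Modules.Hom.zero_app]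
      rfl

instance epi_zq (p : ℕ) : Epi (zq n A p) := by
  refine epi_of_charts n A _ fun Q i hi x => ?_
  obtain ⟨y, hy⟩ := zι_mem n A p Q i hi x
  refine ⟨y, injective_app_of_mono n A (zι n A p) Q.1 ?_⟩
  rw [← comp_app_apply, zq_zι, hy]

/-- The short complex `Z (p+1) → W (p+1) → Z p`. -/
def sc (p : ℕ) : ShortComplex (CohB1.ProjSpace n A).Modules := ShortComplex.mk _ _ (ι_zq n A p)

theorem shortExact_sc (p : ℕ) : (sc n A p).ShortExact := by
  haveI : Mono (sc n A p).f := mono_zι n A (p + 1)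
  haveI : Epi (sc n A p).g := epi_zq n A p
  have hex : (sc n A p).Exact := by
    refine ShortComplex.exact_of_f_is_kernel _ (KernelFork.IsLimit.ofι' _ _ fun k hk => ?_)
    refine ⟨kernel.lift (δS n A p) k ?_, kernel.lift_ι _ _ _⟩
    rw [← zq_zι n A p, ← Category.assoc, show k ≫ zq n A p = 0 from hk, zero_comp]
  exact ⟨hex⟩

/-- An exterior power of the differentials is a sheaf of Koszul cycles. -/
theorem nonempty_iso_Z {L : (CohB1.ProjSpace n A).Modules} {p : ℕ}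
    (hL : ExtPow.IsExtPow p (Omega.sheaf (CohB1.ProjSpace.toSpec n A)) L) : Nonempty (L ≅ Z n A p) := by
  obtain ⟨φ, hφ⟩ := hL
  let g := ηS n A φ hφ
  have hsect : ∀ (Q : (CohB1.ProjSpace n A).affineOpens) (i : Fin (n + 1)) (hi : Q.1 ≤ DD n A i),
      ∃ σ : ΩQ n A Q.1 →ₗ[Γ(CohB1.ProjSpace n A, Q.1)] (Fin (n + 1) → Γ(CohB1.ProjSpace n A, Q.1)),
        Df n A hi ∘ₗ σ = LinearMap.id ∧ ∀ a, a - σ (Df n A hi a) = a i • Pi.basisFun Γ(CohB1.ProjSpace n A, Q.1) (Fin (n + 1)) i := by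
    intro Q i hi
    let b : Module.Basis (Fin n) Γ(CohB1.ProjSpace n A, Q.1) (ΩQ n A Q.1) :=
      ExtShX.TopExt.bas (isFrame_da n A i) Q.1 hi
    have hb : ∀ r, b r = dd n A Q.1 (t n A hi (i.succAbove r)) := fun r => by
      refine (ExtShX.TopExt.bas_apply (isFrame_da n A i) Q.1 hi r).trans ?_
      exact (Synt29.OmegaStalk.app_res _ _ (homOfLE hi) _).symm
    let σ := b.constr Γ(CohB1.ProjSpace n A, Q.1) fun r => Pi.basisFun Γ(CohB1.ProjSpace n A, Q.1) (Fin (n + 1)) (i.succAbove r)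
    have hσ : ∀ r, σ (b r) = Pi.basisFun Γ(CohB1.ProjSpace n A, Q.1) (Fin (n + 1)) (i.succAbove r) := fun r => Module.Basis.constr_basis _ _ _ _
    refine ⟨σ, b.ext fun r => ?_, fun a => ?_⟩
    · rw [LinearMap.comp_apply, hσ, Df_basis, LinearMap.id_apply, hb]
    · suffices h : LinearMap.id - σ ∘ₗ Df n A hi = (LinearMap.proj i).smulRight (Pi.basisFun Γ(CohB1.ProjSpace n A, Q.1) (Fin (n + 1)) i) from
        LinearMap.congr_fun h a
      refine (Pi.basisFun Γ(CohB1.ProjSpace n A, Q.1) (Fin (n + 1))).ext fun j => ?_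
      obtain rfl | ⟨r, rfl⟩ := i.eq_self_or_eq_succAbove j
      · rw [LinearMap.sub_apply, LinearMap.comp_apply, Df_basis, t_self, dd_one, map_zero]
        simp
      · rw [LinearMap.sub_apply, LinearMap.comp_apply, Df_basis, ← hb, hσ]
        simp [Fin.succAbove_ne]
  haveI : Epi g := epi_of_charts n A _ fun Q i hi x => by
    obtain ⟨σ, hσ, -⟩ := hsect Q i hi
    obtain ⟨y, hy⟩ := Alg.η_surjective (φ := tf n A hi) (D := Df n A hi) (e := Pi.basisFun Γ(CohB1.ProjSpace n A, Q.1) (Fin (n + 1)) i)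
      (by rw [tf_basis, t_self]) (by rw [Df_basis, t_self, dd_one]) (fun z => ⟨σ z, LinearMap.congr_fun hσ z⟩) p
      (φ Q x)
    exact ⟨Θ n A (p + 1) hi y, (ηS_Θ n A φ hφ Q hi y).trans (by rw [hy]; exact (φ Q).symm_apply_apply x)⟩
  have hw1 : kernel.ι g ≫ zq n A p = 0 := by
    rw [← cancel_mono (zι n A p), Category.assoc, zq_zι, zero_comp]
    refine hom_eq_of_charts n A _ _ fun Q i hi x => ?_
    obtain ⟨y, hy⟩ := (Θ n A (p + 1) hi).surjective ((kernel.ι g).app Q.1 x)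
    obtain ⟨σ, -, hσ⟩ := hsect Q i hi
    have h0 : g.app Q.1 ((kernel.ι g).app Q.1 x) = 0 := by
      rw [← comp_app_apply, kernel.condition, Scheme.Modules.Hom.zero_app]
      rfl
    rw [← hy, ηS_Θ] at h0
    have h1 : Alg.η (tf n A hi) (Df n A hi) p y = 0 := (φ Q).symm.injective (h0.trans (map_zero _).symm)
    rw [comp_app_apply, ← hy, δS_Θ,
      Alg.δ_eq_zero_of_η (e := Pi.basisFun Γ(CohB1.ProjSpace n A, Q.1) (Fin (n + 1)) i) (by rw [tf_basis, t_self]) σ (fun a => ⟨_, hσ a⟩) p y h1,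
      map_zero, Scheme.Modules.Hom.zero_app]
    rfl
  have hw2 : zι n A (p + 1) ≫ g = 0 := by
    refine hom_eq_of_charts n A _ _ fun Q i hi x => ?_
    obtain ⟨y, hy⟩ := (Θ n A (p + 1) hi).surjective ((zι n A (p + 1)).app Q.1 x)
    have h1 : Alg.δ (tf n A hi) p y = 0 := (Θ n A p hi).injective (by
      rw [map_zero, ← δS_Θ, hy, ← comp_app_apply,
        show zι n A (p + 1) ≫ δS n A p = 0 from kernel.condition _, Scheme.Modules.Hom.zero_app]
      rfl)
    rw [comp_app_apply, ← hy, ηS_Θ, Scheme.Modules.Hom.zero_app]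
    show (φ Q).symm _ = 0
    rw [Alg.η, LinearMap.comp_apply, h1, map_zero, map_zero]
  have hg := (ShortComplex.exact_kernel g)
  have hs := (shortExact_sc n A p)
  haveI : Epi (sc n A p).g := hs.epi_g
  haveI : Epi (ShortComplex.mk (kernel.ι g) g (kernel.condition g)).g := ‹Epi g›
  let a : L ⟶ Z n A p := hg.desc (zq n A p) hw1
  let b : Z n A p ⟶ L := hs.exact.desc g hw2
  have ha : g ≫ a = zq n A p := hg.g_desc _ _
  have hb : zq n A p ≫ b = g := hs.exact.g_desc _ _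
  exact ⟨⟨a, b, by rw [← cancel_epi g, reassoc_of% ha, hb, Category.comp_id],
    by rw [← cancel_epi (zq n A p), reassoc_of% hb, ha, Category.comp_id]⟩⟩

end Groth.Agent.OmegaPn
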