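import Groth.Agent.OmegaPn.CohBase
import Groth.Agent.OmegaPn.Seq
import Groth.Agent.S0843
import Groth.Agent.S0844
import Groth.Agent.S0845

/-!
# Cohomology of the sheaves of Koszul cycles and of their twists
-/

set_option autoImplicit false
set_option linter.style.haveILetI false
set_option linter.unusedSectionVars false
set_option backward.isDefEq.respectTransparency false
set_option backward.isDefEq.respectTransparency.types false
set_option maxHeartbeats 800000

universe u

open CategoryTheory CategoryTheory.Limits AlgebraicGeometry TopologicalSpace Opposite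
open Groth.Agent.PnCoh.Finite (mapLin deltaLin)
open Groth.Agent.CurveCohLib (ker_mapLin_g ker_mapLin_f_succ ker_deltaLin mapLin_f_zero_injective)

noncomputable section

namespace Groth.Agent.OmegaPn

variable (n : ℕ) (A : Type u) [CommRing A]

/-- The coordinates. -/
def Xc : ULift.{u} (Fin (n + 1)) → MvPolynomial (Fin (n + 1)) A := fun j => MvPolynomial.X j.down

theorem Xc_mem (j : ULift.{u} (Fin (n + 1))) : Xc n A j ∈ CohB1.polyGrading n A 1 :=
  MvPolynomial.isHomogeneous_X A j.down

theorem iSup_Xc : ⨆ j, PnCoh.Finite.D (CohB1.polyGrading n A) (Xc n A j) = ⊤ := by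
  refine top_le_iff.1 ((PnCoh.iSup_mOpen_single (ι := Fin (n + 1)) (R := A)).ge.trans ?_)
  exact iSup_le fun j => le_iSup_of_le (ULift.up j) le_rfl

/-- Tensoring with `O(d)`. -/
abbrev Tw (d : ℤ) : (CohB1.ProjSpace n A).Modules ⥤ (CohB1.ProjSpace n A).Modules :=
  PnCoh.Finite.twistF (𝒜 := CohB1.polyGrading n A) d

instance additive_Tw (d : ℤ) : (Tw n A d).Additive :=
  Functor.additive_of_preserves_binary_products _

theorem shortExact_Tw (d : ℤ) {S : ShortComplex (CohB1.ProjSpace n A).Modules} (hS : S.ShortExact) :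
    (S.map (Tw n A d)).ShortExact :=
  PnCoh.Finite.shortExact_twistBy (Xc n A) (Xc_mem n A) (iSup_Xc n A) d hS

theorem Tw_twist (d a : ℤ) :
    Nonempty ((Tw n A d).obj (Twist.twistProjSpace n A a) ≅ Twist.twistProjSpace n A (a + d)) :=
  PnCoh.Finite.twistBy_twist_iso (Xc n A) (Xc_mem n A) (iSup_Xc n A) a d

/-- An exact functor carrying `O(-m)` to `O(d-m)`. -/
structure IsTw (d : ℤ) (F : (CohB1.ProjSpace n A).Modules ⥤ (CohB1.ProjSpace n A).Modules) [F.Additive] : Prop where
  exact : ∀ {S : ShortComplex (CohB1.ProjSpace n A).Modules}, S.ShortExact → (S.map F).ShortExact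
  obj_O : ∀ m : ℕ, Nonempty (F.obj (O n A m) ≅ Twist.twistProjSpace n A (d - m))

theorem isTw_Tw (d : ℤ) : IsTw n A d (Tw n A d) where
  exact := shortExact_Tw n A d
  obj_O m := ⟨(Tw_twist n A d _).some ≪≫ eqToIso (by rw [neg_add_eq_sub])⟩

theorem isTw_id : IsTw n A 0 (𝟭 _) where
  exact hS := hS
  obj_O m := ⟨eqToIso (by rw [zero_sub]; rfl)⟩

theorem natCard_Idx (p : ℕ) : Nat.card (Idx n p) = (n + 1).choose p := by
  rw [Set.powersetCard.card, Nat.card_fin]

theorem isEmpty_Idx {p : ℕ} (hp : n + 1 < p) : IsEmpty (Idx n p) := by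
  refine ((Nat.card_eq_zero).1 ?_).resolve_right fun h => h.not_finite inferInstance
  rw [natCard_Idx, Nat.choose_eq_zero_of_lt hp]

theorem isZero_Z {p : ℕ} (hp : n < p) : IsZero (Z n A p) := by
  haveI := isEmpty_Idx n (p := p + 1) (by omega)
  have hW : 𝟙 (W n A (p + 1)) = 0 := biproduct.hom_ext _ _ fun S => isEmptyElim S
  have h : zι n A p = 0 := hom_eq_of_charts n A _ _ fun Q i hi x => by
    obtain ⟨y, hy⟩ := zι_mem n A p Q i hi x
    rw [← hy, ← Category.id_comp (δS n A p), hW, zero_comp, Scheme.Modules.Hom.zero_app,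
      Scheme.Modules.Hom.zero_app]
    rfl
  exact IsZero.of_mono_eq_zero (zι n A p) h

variable {n A} {d : ℤ} {F : (CohB1.ProjSpace n A).Modules ⥤ (CohB1.ProjSpace n A).Modules} [F.Additive]

theorem W_van (hF : IsTw n A d F) (p q : ℕ) (h₀ : ¬ (q = 0 ∧ (p : ℤ) ≤ d))
    (hn : ¬ (q = n ∧ d - p ≤ -((n : ℤ) + 1))) : Subsingleton (Coh.HH (CohB1.ProjSpace n A) (F.obj (W n A p)) q) := by
  haveI : ∀ S : Idx n p, Subsingleton (Coh.HH (CohB1.ProjSpace n A) (F.obj (O n A p)) q) := fun _ => by
    haveI := Groth.Agent.S0844.result A n (d - p) q (fun h => h₀ ⟨h.1, by omega⟩) hn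
    exact (HHiso A (hF.obj_O p).some q).toEquiv.subsingleton
  haveI : Fintype (Idx n p) := Fintype.ofFinite _
  exact (HHsum A F (fun _ : Idx n p => O n A p) q).toEquiv.subsingleton

theorem W_van_empty (p q : ℕ) (hp : n + 1 < p) :
    Subsingleton (Coh.HH (CohB1.ProjSpace n A) (F.obj (W n A p)) q) := by
  haveI := isEmpty_Idx n hp
  haveI : Fintype (Idx n p) := Fintype.ofFinite _
  exact (HHsum A F (fun _ : Idx n p => O n A p) q).toEquiv.subsingleton

theorem Z_van_gt (p q : ℕ) (hp : n < p) : Subsingleton (Coh.HH (CohB1.ProjSpace n A) (F.obj (Z n A p)) q) :=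
  subsingleton_of_isZero A (F.map_isZero (isZero_Z n A hp)) q

/-- Vanishing above the dimension. -/
theorem Z_van_high (hF : IsTw n A d F) (q : ℕ) (hq : n < q) (p : ℕ) :
    Subsingleton (Coh.HH (CohB1.ProjSpace n A) (F.obj (Z n A p)) q) := by
  suffices h : ∀ j p q, n < p + j → n < q → Subsingleton (Coh.HH (CohB1.ProjSpace n A) (F.obj (Z n A p)) q) from
    h (n + 1) p q (by omega) hq
  intro j
  induction j with
  | zero => exact fun p q hp _ => Z_van_gt p q hp
  | succ j ih =>
    exact fun p q hp hq => PnCoh.Finite.subsingleton_HH_X₃ (hF.exact (shortExact_sc n A p)) q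
      (W_van hF _ _ (by omega) (by omega)) (ih (p + 1) (q + 1) (by omega) (by omega))

/-- Vanishing of the higher cohomology of positive twists. -/
theorem Z_van_pos (hF : IsTw n A d F) (hd : 0 < d) (p q : ℕ) (hq : 0 < q) :
    Subsingleton (Coh.HH (CohB1.ProjSpace n A) (F.obj (Z n A p)) q) := by
  suffices h : ∀ j p q, n < p + j → 0 < q → Subsingleton (Coh.HH (CohB1.ProjSpace n A) (F.obj (Z n A p)) q) from
    h (n + 1) p q (by omega) hq
  intro j
  induction j with
  | zero => exact fun p q hp _ => Z_van_gt p q hp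
  | succ j ih =>
    intro p q hp hq
    rcases Nat.lt_or_ge n p with h | h
    · exact Z_van_gt p q h
    exact PnCoh.Finite.subsingleton_HH_X₃ (hF.exact (shortExact_sc n A p)) q
      (W_van hF _ _ (by omega) (by push_cast; omega)) (ih (p + 1) (q + 1) (by omega) (by omega))

/-- Vanishing below the dimension for negative twists. -/
theorem Z_van_neg (hF : IsTw n A d F) (hd : d < 0) : ∀ (p q : ℕ), q < n →
    Subsingleton (Coh.HH (CohB1.ProjSpace n A) (F.obj (Z n A p)) q) := by
  intro p
  induction p with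
  | zero => exact fun q hq => W_van hF 0 q (by omega) (by omega)
  | succ p ih =>
    rintro (_ | q) hq
    · exact subsingleton_X₁_zero A (hF.exact (shortExact_sc n A p)) (W_van hF _ _ (by omega) (by omega))
    · exact subsingleton_X₁_succ A (hF.exact (shortExact_sc n A p)) q (ih q (by omega))
        (W_van hF _ _ (by omega) (by omega))

/-- The constants as the polynomials of degree zero. -/
def homogZero (σ : Type) : ↥(MvPolynomial.homogeneousSubmodule σ A 0) ≃ₗ[A] A :=
  (LinearEquiv.ofBijective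
    (LinearMap.codRestrict (MvPolynomial.homogeneousSubmodule σ A 0) (Algebra.linearMap A (MvPolynomial σ A))
      fun a => MvPolynomial.isHomogeneous_C σ a)
    ⟨fun a b h => MvPolynomial.C_injective σ A (congrArg Subtype.val h), fun x =>
      ⟨MvPolynomial.coeff 0 x.1, Subtype.ext (MvPolynomial.totalDegree_eq_zero_iff_eq_C.1
        (Nat.le_zero.1 (MvPolynomial.IsHomogeneous.totalDegree_le x.2))).symm⟩⟩).symm

/-- Hodge cohomology of projective space. -/
theorem Z_hodge : ∀ p, p ≤ n →
    (∀ q, q ≠ p → Subsingleton (Coh.HH (CohB1.ProjSpace n A) (Z n A p) q)) ∧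
      Nonempty (Coh.HH (CohB1.ProjSpace n A) (Z n A p) p ≃ₗ[A] A) := by
  intro p
  induction p with
  | zero =>
    refine fun _ => ⟨fun q hq => W_van (isTw_id n A) 0 q (fun h => hq h.1) (by omega), ?_⟩
    haveI : Fintype (Idx n 0) := Fintype.ofFinite _
    obtain ⟨hs, hne⟩ := (Nat.card_eq_one_iff_unique (α := Idx n 0)).1 (by rw [natCard_Idx, Nat.choose_zero_right])
    haveI := hs
    haveI : Unique (Idx n 0) := uniqueOfSubsingleton hne.some
    obtain ⟨e⟩ := Groth.Agent.S0843.result A n 0
    exact ⟨(HHsum A (𝟭 _) (fun _ : Idx n 0 => O n A 0) 0).trans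
      ((LinearEquiv.funUnique (Idx n 0) A _).trans
        ((HHiso A (show O n A 0 ≅ Twist.twistProjSpace n A ((0 : ℕ) : ℤ) from eqToIso (by rw [O]; norm_num)) 0).trans
          (e.trans (homogZero (A := A) _))))⟩
  | succ p ih =>
    intro hp
    obtain ⟨hv, ⟨e⟩⟩ := ih (by omega)
    have hW : ∀ q, Subsingleton (Coh.HH (CohB1.ProjSpace n A) (W n A (p + 1)) q) := fun q =>
      W_van (F := 𝟭 _) (isTw_id n A) (p + 1) q (by omega) (by omega)
    refine ⟨fun q hq => ?_, ⟨((LinearEquiv.ofBijective (deltaLin A (shortExact_sc n A p) p)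
      ⟨delta_injective A _ p (hW p), delta_surjective A _ p (hW (p + 1))⟩).symm).trans e⟩⟩
    rcases q with _ | q
    · exact subsingleton_X₁_zero A (shortExact_sc n A p) (hW 0)
    · exact subsingleton_X₁_succ A (shortExact_sc n A p) q (hv q (by omega)) (hW _)

/-- Hodge cohomology of projective space vanishes off the diagonal. -/
theorem Z_hodge_van (p q : ℕ) (h : p ≠ q ∨ n < p) : Subsingleton (Coh.HH (CohB1.ProjSpace n A) (Z n A p) q) := by
  rcases Nat.lt_or_ge n p with hp | hp
  · exact Z_van_gt (F := 𝟭 _) p q hp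
  · exact (Z_hodge p hp).1 q (Ne.symm (h.resolve_right (by omega)))

end Groth.Agent.OmegaPn
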