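import Groth.Agent.OmegaPn.Maps
import Groth.Agent.PnCoh.Finite.SerreVanishing
import Groth.Agent.CurveCohLib.Euler

/-!
# Linear maps in the long exact sequence of cohomology
-/

set_option autoImplicit false
set_option linter.style.haveILetI false
set_option linter.unusedSectionVars false
set_option backward.isDefEq.respectTransparency false
set_option backward.isDefEq.respectTransparency.types false
set_option maxHeartbeats 800000

universe u

open CategoryTheory CategoryTheory.Limits AlgebraicGeometry TopologicalSpace Opposite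
open Groth.Agent.PnCoh.Finite (mapLin deltaLin)
open Groth.Agent.CurveCohLib (ker_mapLin_g ker_mapLin_f_succ ker_deltaLin mapLin_f_zero_injective)

noncomputable section

namespace Groth.Agent.OmegaPn

section General

variable {X : Scheme.{u}} (A : Type u) [CommRing A] [X.Over (Spec (CommRingCat.of A))]

theorem mapLin_comp' {M N K : X.Modules} (f : M ⟶ N) (g : N ⟶ K) (q : ℕ) (x : Coh.HH X M q) :
    mapLin A g q (mapLin A f q x) = mapLin A (f ≫ g) q x :=
  PnCoh.Finite.map_map (Y := X.toPresheafedSpace.carrier) ((QCoh.toAbFunctor X).map_comp f g).symm q x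

theorem mapLin_id' {M : X.Modules} (q : ℕ) (x : Coh.HH X M q) : mapLin A (𝟙 M) q x = x := by
  show Sheaf.H.map ((QCoh.toAbFunctor X).map (𝟙 M)) q x = x
  rw [CategoryTheory.Functor.map_id, Sheaf.H.map_id_apply]

theorem mapLin_zero' {M N : X.Modules} (q : ℕ) (x : Coh.HH X M q) : mapLin A (0 : M ⟶ N) q x = 0 := by
  show Sheaf.H.map ((QCoh.toAbFunctor X).map (0 : M ⟶ N)) q x = 0
  rw [Functor.map_zero]
  show ((Sheaf.functorH _ q).map 0).hom x = 0
  rw [Functor.map_zero]
  rfl

theorem mapLin_sum' {M N : X.Modules} {ι : Type*} (s : Finset ι) (f : ι → (M ⟶ N)) (q : ℕ) (x : Coh.HH X M q) :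
    mapLin A (∑ i ∈ s, f i) q x = ∑ i ∈ s, mapLin A (f i) q x := by
  classical
  induction s using Finset.induction_on with
  | empty => rw [Finset.sum_empty, Finset.sum_empty]; exact mapLin_zero' A q x
  | insert a s ha ih =>
    rw [Finset.sum_insert ha, Finset.sum_insert ha, ← ih]
    show Sheaf.H.map ((QCoh.toAbFunctor X).map (f a + _)) q x = _
    rw [Functor.map_add, Sheaf.H.map_add_apply]
    rfl

/-- Isomorphic modules have isomorphic cohomology. -/
def HHiso {M N : X.Modules} (e : M ≅ N) (q : ℕ) : Coh.HH X M q ≃ₗ[A] Coh.HH X N q :=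
  LinearEquiv.ofLinear (mapLin A e.hom q) (mapLin A e.inv q)
    (LinearMap.ext fun x => by rw [LinearMap.comp_apply, mapLin_comp', e.inv_hom_id, mapLin_id']; rfl)
    (LinearMap.ext fun x => by rw [LinearMap.comp_apply, mapLin_comp', e.hom_inv_id, mapLin_id']; rfl)

/-- Cohomology of an additive functor applied to a finite biproduct. -/
def HHsum {ι : Type} [Fintype ι] (F : X.Modules ⥤ X.Modules) [F.Additive] (T : ι → X.Modules) (q : ℕ)
    [HasBiproduct T] : Coh.HH X (F.obj (⨁ T)) q ≃ₗ[A] (∀ j, Coh.HH X (F.obj (T j)) q) :=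
  LinearEquiv.ofLinear (LinearMap.pi fun j => mapLin A (F.map (biproduct.π T j)) q)
    (∑ j, (mapLin A (F.map (biproduct.ι T j)) q).comp (LinearMap.proj j))
    (LinearMap.ext fun x => funext fun i => by
      classical
      rw [LinearMap.comp_apply, LinearMap.pi_apply, LinearMap.sum_apply, map_sum, LinearMap.id_apply]
      refine (Finset.sum_eq_single i (fun j _ hj => ?_) (fun h => absurd (Finset.mem_univ i) h)).trans ?_
      · rw [LinearMap.comp_apply, mapLin_comp', ← Functor.map_comp, biproduct.ι_π_ne _ hj, Functor.map_zero, mapLin_zero']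
      · rw [LinearMap.comp_apply, mapLin_comp', ← Functor.map_comp, biproduct.ι_π_self, F.map_id, mapLin_id']
        rfl)
    (LinearMap.ext fun x => by
      classical
      rw [LinearMap.comp_apply, LinearMap.sum_apply, LinearMap.id_apply]
      conv_rhs => rw [← mapLin_id' A q x, ← F.map_id, ← biproduct.total, F.map_sum, mapLin_sum']
      refine Finset.sum_congr rfl fun j _ => ?_
      rw [LinearMap.comp_apply, F.map_comp, ← mapLin_comp']
      rfl)

include A in
theorem subsingleton_of_isZero {M : X.Modules} (h : IsZero M) (q : ℕ) : Subsingleton (Coh.HH X M q) :=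
  subsingleton_of_forall_eq 0 fun x => by rw [← mapLin_id' A q x, h.eq_of_src (𝟙 M) 0, mapLin_zero']

variable {S : ShortComplex X.Modules} (hS : S.ShortExact)

theorem delta_injective (q : ℕ) (h : Subsingleton (Coh.HH X S.X₂ q)) : Function.Injective (deltaLin A hS q) := by
  rw [← LinearMap.ker_eq_bot, ker_deltaLin A hS q, LinearMap.range_eq_bot]
  exact LinearMap.ext fun x => by rw [h.elim x 0, map_zero, LinearMap.zero_apply]

theorem delta_surjective (q : ℕ) (h : Subsingleton (Coh.HH X S.X₂ (q + 1))) :
    Function.Surjective (deltaLin A hS q) := by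
  rw [← LinearMap.range_eq_top, ← ker_mapLin_f_succ A hS q, eq_top_iff]
  exact fun x _ => LinearMap.mem_ker.2 (h.elim _ _)

include A hS in
theorem subsingleton_X₁_succ (q : ℕ) (h₃ : Subsingleton (Coh.HH X S.X₃ q))
    (h₂ : Subsingleton (Coh.HH X S.X₂ (q + 1))) : Subsingleton (Coh.HH X S.X₁ (q + 1)) :=
  (delta_surjective A hS q h₂).subsingleton

include A hS in
theorem subsingleton_X₁_zero (h₂ : Subsingleton (Coh.HH X S.X₂ 0)) : Subsingleton (Coh.HH X S.X₁ 0) :=
  (mapLin_f_zero_injective A hS).subsingleton

include hS in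
theorem surjective_g (q : ℕ) (h : Subsingleton (Coh.HH X S.X₁ (q + 1))) : Function.Surjective (mapLin A S.g q) := by
  rw [← LinearMap.range_eq_top, ← ker_deltaLin A hS q, eq_top_iff]
  exact fun x _ => LinearMap.mem_ker.2 (h.elim _ _)

include hS in
theorem injective_f_succ (q : ℕ) (h : Subsingleton (Coh.HH X S.X₃ q)) :
    Function.Injective (mapLin A S.f (q + 1)) := by
  rw [← LinearMap.ker_eq_bot, ker_mapLin_f_succ A hS q, LinearMap.range_eq_bot]
  exact LinearMap.ext fun x => by rw [h.elim x 0, map_zero, LinearMap.zero_apply]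

include hS in
theorem finrank_add {k : Type u} [Field k] [X.Over (Spec (CommRingCat.of k))] (q : ℕ)
    (hi : Function.Injective (mapLin k S.f q)) (hs : Function.Surjective (mapLin k S.g q))
    (hfin : Module.Finite k (Coh.HH X S.X₂ q)) :
    Module.Finite k (Coh.HH X S.X₁ q) ∧ Module.Finite k (Coh.HH X S.X₃ q) ∧
      Module.finrank k (Coh.HH X S.X₃ q) + Module.finrank k (Coh.HH X S.X₁ q) = Module.finrank k (Coh.HH X S.X₂ q) := by
  refine ⟨FiniteDimensional.of_injective _ hi, Module.Finite.of_surjective _ hs, ?_⟩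
  have h := LinearMap.finrank_range_add_finrank_ker (mapLin k S.g q)
  rw [LinearMap.range_eq_top.2 hs, finrank_top, ker_mapLin_g k hS q, LinearMap.finrank_range_of_inj hi] at h
  exact h

end General

end Groth.Agent.OmegaPn
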