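import Groth.Agent.ExtShX.PnOmegaOver
import Groth.Agent.ProjUPX.TwistFrame

/-!
# The charts of projective space over a ring, and the frames of the differentials
-/

set_option autoImplicit false
set_option linter.style.haveILetI false
set_option linter.unusedSectionVars false
set_option backward.isDefEq.respectTransparency false
set_option backward.isDefEq.respectTransparency.types false

universe u

open CategoryTheory CategoryTheory.Limits AlgebraicGeometry TopologicalSpace Opposite
open HomogeneousLocalization (Away)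

noncomputable section

namespace Groth.Agent.OmegaPn

open Groth.Agent.AModX Groth.Agent.ExtShX.PnOmegaOver

variable (n : ℕ) (k : Type u) [CommRing k]

local notation "Gr" => CohB1.polyGrading n k
local notation "T" => (MvPolynomial.X : Fin (n + 1) → MvPolynomial (Fin (n + 1)) k)

theorem chartEquiv_C (i : Fin (n + 1)) (c : k) :
    chartEquiv n k i (MvPolynomial.C c) = ((CohB1.ProjSpace.toSpec n k).appLE ⊤ (DD n k i) le_top).hom
      ((Scheme.ΓSpecIso (CommRingCat.of k)).inv c) := by
  let a : CommRingCat.of (Away Gr (T i)) ≅ Γ(Proj Gr, Proj.basicOpen Gr (T i)) :=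
    Proj.basicOpenIsoAway Gr (T i) (PruferCoh.X_mem_one n k i) Nat.one_pos
  show a.hom (PruferCoh.fromChart n k i (MvPolynomial.C c)) = _
  rw [PruferCoh.fromChart, MvPolynomial.eval₂Hom_C]
  let D := Proj.basicOpen Gr (T i)
  have hD : IsAffineOpen D := Proj.isAffineOpen_basicOpen Gr (T i) (PruferCoh.X_mem_one n k i) Nat.one_pos
  have h1 : D.ι ≫ CohB1.ProjSpace.toSpec n k =
      Proj.basicOpenToSpec Gr (T i) ≫ Spec.map (CommRingCat.ofHom (PruferCoh.base n k i)) := by
    rw [← Proj.basicOpenIsoSpec_hom Gr (T i) (PruferCoh.X_mem_one n k i) Nat.one_pos, ← Iso.inv_comp_eq, ← Category.assoc,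
      Proj.basicOpenIsoSpec_inv_ι]
    show Proj.awayι Gr (T i) (PruferCoh.X_mem_one n k i) Nat.one_pos ≫ Proj.toSpecZero Gr ≫ _ = _
    rw [← Category.assoc, Proj.awayι_toSpecZero, ← Spec.map_comp]
    rfl
  have h2 : hD.fromSpec ≫ CohB1.ProjSpace.toSpec n k =
      Spec.map (CommRingCat.ofHom (PruferCoh.base n k i) ≫ a.hom) := by
    rw [IsAffineOpen.fromSpec, Category.assoc]
    erw [h1]
    rw [Iso.inv_comp_eq, Spec.map_comp]
    show _ = hD.isoSpec.hom ≫ Spec.map a.hom ≫ _
    rw [IsAffineOpen.isoSpec_hom, Proj.basicOpenToSpec, Category.assoc]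
    rfl
  have h3 := IsAffineOpen.SpecMap_appLE_fromSpec (CohB1.ProjSpace.toSpec n k) (isAffineOpen_top _) hD
    (le_top : D ≤ CohB1.ProjSpace.toSpec n k ⁻¹ᵁ ⊤)
  have h3' := h3.trans h2
  rw [IsAffineOpen.fromSpec_top, Scheme.isoSpec_Spec_inv, ← Spec.map_comp] at h3'
  have h4 := Spec.map_injective h3'
  exact (congrArg (fun φ => φ.hom c) h4).symm


instance : QuasiSeparated (CohB1.ProjSpace.toSpec n k) := by
  haveI : IsProper (CohB1.ProjSpace.toSpec n k) := PnCoh.Chow.isProper_toSpec n k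
  infer_instance

theorem iSup_DD (x : CohB1.ProjSpace n k) : ∃ i : ULift.{u} (Fin (n + 1)), x ∈ DD n k i.down := by
  obtain ⟨j, hj⟩ := PnCoh.Chow.cov_coord _ x
  exact ⟨j, hj⟩

/-- The coordinate differentials form a frame. -/
theorem isFrame_da (i : Fin (n + 1)) :
    H23.Frame.IsFrame (Omega.sheaf (CohB1.ProjSpace.toSpec n k))
      (fun r : Fin n => (OmegaSh.dOmega (CohB1.ProjSpace.toSpec n k)).app (DD n k i) (a n k i (i.succAbove r))) := by
  let f := CohB1.ProjSpace.toSpec n k
  let U := DD n k i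
  have hU : IsAffineOpen U := isAffineOpen_DD n k i
  let A := Γ(Spec (CommRingCat.of k), ⊤)
  letI : Algebra A Γ(CohB1.ProjSpace n k, U) := (f.appLE ⊤ U le_top).hom.toAlgebra
  let P := MvPolynomial (Fin n) A
  let v : Fin n → Γ(CohB1.ProjSpace n k, U) := fun r => a n k i (i.succAbove r)
  let ψ : P →ₐ[A] Γ(CohB1.ProjSpace n k, U) := MvPolynomial.aeval v
  let e1 : P ≃+* MvPolynomial (Fin n) k :=
    MvPolynomial.mapEquiv _ (Scheme.ΓSpecIso (CommRingCat.of k)).commRingCatIsoToRingEquiv
  have hψ : ψ.toRingHom = (e1.trans (chartEquiv n k i)).toRingHom := by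
    refine MvPolynomial.ringHom_ext (fun c => ?_) fun r => ?_
    · refine (ψ.commutes c).trans ?_
      show _ = chartEquiv n k i (MvPolynomial.map _ (MvPolynomial.C c))
      rw [MvPolynomial.map_C, chartEquiv_C]
      exact congrArg (fun x => (f.appLE ⊤ U le_top).hom x)
        ((Scheme.ΓSpecIso (CommRingCat.of k)).commRingCatIsoToRingEquiv.symm_apply_apply c).symm
    · refine (MvPolynomial.aeval_X (R := A) v r).trans ?_
      show _ = chartEquiv n k i (MvPolynomial.map _ (MvPolynomial.X r))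
      rw [MvPolynomial.map_X, chartEquiv_X]
  letI : Algebra P Γ(CohB1.ProjSpace n k, U) := ψ.toRingHom.toAlgebra
  haveI : IsScalarTower A P Γ(CohB1.ProjSpace n k, U) := IsScalarTower.of_algebraMap_eq fun c => (ψ.commutes c).symm
  haveI : Algebra.Etale P Γ(CohB1.ProjSpace n k, U) := by
    have h : ψ.toRingHom.Etale := by
      rw [hψ]
      exact RingHom.Etale.of_bijective (e1.trans (chartEquiv n k i)).bijective
    exact h
  let γ : Module.Basis (Fin n) Γ(CohB1.ProjSpace n k, U)
      (TensorProduct P Γ(CohB1.ProjSpace n k, U) Ω[P⁄A]) :=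
    (KaehlerDifferential.mvPolynomialBasis A (Fin n)).baseChange _
  refine ExtShX.SmFrame.isFrame_dOmega f hU (isAffineOpen_top _) le_top v
    (γ.map (KaehlerDifferential.tensorKaehlerEquivOfFormallyEtale A P Γ(CohB1.ProjSpace n k, U))) fun r => ?_
  rw [Module.Basis.map_apply]
  show KaehlerDifferential.mapBaseChange A P Γ(CohB1.ProjSpace n k, U) (γ r) = _
  rw [Module.Basis.baseChange_apply, KaehlerDifferential.mvPolynomialBasis_apply]
  refine (KaehlerDifferential.mapBaseChange_tmul A P Γ(CohB1.ProjSpace n k, U) 1 _).trans ?_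
  rw [one_smul, KaehlerDifferential.map_D]
  exact congrArg _ (MvPolynomial.aeval_X (R := A) v r)

/-- Transition of the frames of `O(-m)`. -/
theorem res_pw (m : ℕ) (i l : Fin (n + 1)) {W : (CohB1.ProjSpace n k).Opens} (hi : W ≤ DD n k i)
    (hl : W ≤ DD n k l) :
    res _ hl (pw n k (-(m : ℤ)) l) = resR hl (a n k l i) ^ m • res _ hi (pw n k (-(m : ℤ)) i) := by
  refine Subtype.ext (funext fun x => Subtype.ext ?_)
  refine Eq.trans ?_ (Twist.coe_smul_val _ x.1 _ _).symm
  have hv : ∀ (q : Fin (n + 1)) (hq : W ≤ DD n k q) (r : Γ(CohB1.ProjSpace n k, DD n k q)),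
      ((show Twist.O (𝒜 := Gr) (op W) from resR hq r).1 x).val =
        ((show Twist.O (𝒜 := Gr) (op (DD n k q)) from r).1 ⟨x.1, hq x.2⟩).val := fun _ _ _ => rfl
  show (Localization.mk (T l ^ (-(m : ℤ)).toNat) ⟨T l ^ (-(-(m : ℤ))).toNat, _⟩ : Twist.Loc Gr x.1) =
    ((show Twist.O (𝒜 := Gr) (op W) from resR hl (a n k l i) ^ m).1 x).val *
      Localization.mk (T i ^ (-(m : ℤ)).toNat) ⟨T i ^ (-(-(m : ℤ))).toNat, _⟩
  have hpow : ((show Twist.O (𝒜 := Gr) (op W) from resR hl (a n k l i) ^ m).1 x).val =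
      (Localization.mk (T i) ⟨T l, (hl x.2)⟩ : Twist.Loc Gr x.1) ^ m := by
    show (((show Twist.O (𝒜 := Gr) (op W) from resR hl (a n k l i)) ^ m).1 x).val = _
    have h0 : ((show Twist.O (𝒜 := Gr) (op W) from resR hl (a n k l i)).1 x).val =
        (Localization.mk (T i) ⟨T l, (hl x.2)⟩ : Twist.Loc Gr x.1) := by
      rw [hv l hl, a]
      erw [ProjectiveSpectrum.Proj.awayToSection_apply]
      rw [PruferCoh.coord, Away.val_mk, Localization.mk_eq_mk' (M := Submonoid.powers (T l)), IsLocalization.map_mk',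
        ← Localization.mk_eq_mk', Localization.mk_eq_mk_iff, Localization.r_iff_exists]
      exact ⟨1, by simp⟩
    rw [← h0, ← HomogeneousLocalization.val_pow]
    rfl
  rw [hpow, Localization.mk_pow, Localization.mk_mul, Localization.mk_eq_mk_iff, Localization.r_iff_exists]
  refine ⟨1, ?_⟩
  simp only [show (-(m : ℤ)).toNat = 0 by omega, show (-(-(m : ℤ))).toNat = m by omega,
    SubmonoidClass.coe_pow, Submonoid.coe_mul, OneMemClass.coe_one, one_mul, pow_zero, mul_one]

end Groth.Agent.OmegaPn
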