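import Mathlib

/-!
# The Koszul differential on exterior powers
-/

set_option autoImplicit false

universe u v w

open Finset

noncomputable section

namespace Groth.Agent.OmegaPn.Alg

variable {R : Type u} [CommRing R] {M : Type v} [AddCommGroup M] [Module R M]
  {N : Type w} [AddCommGroup N] [Module R N]

/-- Wedging on the left. -/
def wg (a : M) (p : ℕ) : ↥(⋀[R]^p M) →ₗ[R] ↥(⋀[R]^(p + 1) M) :=
  exteriorPower.alternatingMapLinearEquiv ((exteriorPower.ιMulti R (p + 1)).curryLeft a)

theorem wg_ιMulti (a : M) (p : ℕ) (v : Fin p → M) :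
    wg (R := R) a p (exteriorPower.ιMulti R p v) = exteriorPower.ιMulti R (p + 1) (Fin.cons a v) := by
  rw [wg, exteriorPower.alternatingMapLinearEquiv_apply_ιMulti]
  rfl

theorem hom_ext_wg {p : ℕ} {f g : ↥(⋀[R]^(p + 1) M) →ₗ[R] N}
    (h : ∀ (a : M) (y : ↥(⋀[R]^p M)), f (wg a p y) = g (wg a p y)) : f = g := by
  refine exteriorPower.linearMap_ext (AlternatingMap.ext fun v => ?_)
  have := h (v 0) (exteriorPower.ιMulti R p (Fin.tail v))
  rwa [wg_ιMulti, Fin.cons_self_tail] at this

theorem wg_smul (c : R) (a : M) (p : ℕ) : wg (R := R) (c • a) p = c • wg a p :=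
  exteriorPower.linearMap_ext (AlternatingMap.ext fun v => by
    simp only [LinearMap.compAlternatingMap_apply, LinearMap.smul_apply, wg,
      exteriorPower.alternatingMapLinearEquiv_apply_ιMulti, map_smul, AlternatingMap.smul_apply])

theorem wg_add (a b : M) (p : ℕ) : wg (R := R) (a + b) p = wg a p + wg b p :=
  exteriorPower.linearMap_ext (AlternatingMap.ext fun v => by
    simp only [LinearMap.compAlternatingMap_apply, LinearMap.add_apply, wg,
      exteriorPower.alternatingMapLinearEquiv_apply_ιMulti, map_add, AlternatingMap.add_apply])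

theorem wg_wg_self (a : M) (p : ℕ) (y : ↥(⋀[R]^p M)) : wg (R := R) a (p + 1) (wg a p y) = 0 := by
  suffices h : wg (R := R) a (p + 1) ∘ₗ wg a p = 0 from LinearMap.congr_fun h y
  refine exteriorPower.linearMap_ext (AlternatingMap.ext fun v => ?_)
  simp only [LinearMap.compAlternatingMap_apply, LinearMap.comp_apply, LinearMap.zero_apply, wg_ιMulti]
  exact AlternatingMap.map_eq_zero_of_eq (exteriorPower.ιMulti R (p + 2)) (Fin.cons a (Fin.cons a v))
    (i := 0) (j := 1) rfl Fin.zero_ne_one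

theorem wg_swap (a b : M) (p : ℕ) (y : ↥(⋀[R]^p M)) :
    wg (R := R) a (p + 1) (wg b p y) = -wg b (p + 1) (wg a p y) := by
  have h := wg_wg_self (R := R) (a + b) p y
  simp only [wg_add, LinearMap.add_apply, map_add, wg_wg_self, zero_add, add_zero] at h
  exact eq_neg_of_add_eq_zero_right h

variable (φ : M →ₗ[R] R)

/-- Contraction with a linear form. -/
def δ (p : ℕ) : ↥(⋀[R]^(p + 1) M) →ₗ[R] ↥(⋀[R]^p M) :=
  exteriorPower.alternatingMapLinearEquiv
    (AlternatingMap.alternatizeUncurryFin (φ.smulRight (exteriorPower.ιMulti R p)))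

theorem δ_ιMulti (p : ℕ) (v : Fin (p + 1) → M) :
    δ φ p (exteriorPower.ιMulti R (p + 1) v) =
      ∑ i : Fin (p + 1), (-1 : ℤ) ^ (i : ℕ) • φ (v i) • exteriorPower.ιMulti R p (i.removeNth v) := by
  rw [δ, exteriorPower.alternatingMapLinearEquiv_apply_ιMulti, AlternatingMap.alternatizeUncurryFin_apply]
  rfl

theorem δ_wg_zero (a : M) (y : ↥(⋀[R]^0 M)) : δ φ 0 (wg a 0 y) = φ a • y := by
  suffices h : δ φ 0 ∘ₗ wg a 0 = φ a • LinearMap.id from LinearMap.congr_fun h y
  refine exteriorPower.linearMap_ext (AlternatingMap.ext fun v => ?_)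
  simp [wg_ιMulti, δ_ιMulti]

theorem δ_wg (a : M) (p : ℕ) (y : ↥(⋀[R]^(p + 1) M)) :
    δ φ (p + 1) (wg a (p + 1) y) = φ a • y - wg a p (δ φ p y) := by
  suffices h : δ φ (p + 1) ∘ₗ wg a (p + 1) = φ a • LinearMap.id - wg a p ∘ₗ δ φ p from LinearMap.congr_fun h y
  refine exteriorPower.linearMap_ext (AlternatingMap.ext fun v => ?_)
  simp only [LinearMap.compAlternatingMap_apply, LinearMap.comp_apply, LinearMap.sub_apply, LinearMap.smul_apply,
    LinearMap.id_apply, wg_ιMulti, δ_ιMulti, map_sum, map_zsmul, map_smul]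
  rw [Fin.sum_univ_succ, sub_eq_add_neg, ← Finset.sum_neg_distrib]
  refine congr_arg₂ (· + ·) (by simp) (Finset.sum_congr rfl fun i _ => ?_)
  have : i.succ.removeNth (Fin.cons a v : Fin (p + 2) → M) = Fin.cons a (i.removeNth v) := by
    funext j
    refine Fin.cases ?_ (fun j => ?_) j
    · simp [Fin.removeNth, Fin.succ_succAbove_zero]
    · simp [Fin.removeNth, Fin.succ_succAbove_succ]
  rw [this, Fin.cons_succ, Fin.val_succ, pow_succ, mul_neg, mul_one, neg_smul]

theorem δ_δ : ∀ (p : ℕ) (x : ↥(⋀[R]^(p + 2) M)), δ φ p (δ φ (p + 1) x) = 0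
  | 0, x => by
    suffices h : δ φ 0 ∘ₗ δ φ 1 = 0 from LinearMap.congr_fun h x
    refine hom_ext_wg fun a y => ?_
    simp [δ_wg, δ_wg_zero]
  | p + 1, x => by
    suffices h : δ φ (p + 1) ∘ₗ δ φ (p + 2) = 0 from LinearMap.congr_fun h x
    refine hom_ext_wg fun a y => ?_
    simp [δ_wg, δ_δ p y]

theorem δ_smul (c : R) (p : ℕ) : δ (c • φ) p = c • δ φ p :=
  exteriorPower.linearMap_ext (AlternatingMap.ext fun v => by
    simp only [LinearMap.compAlternatingMap_apply, LinearMap.smul_apply, δ_ιMulti, smul_eq_mul, mul_smul,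
      Finset.smul_sum, smul_comm c])

theorem map_wg (D : M →ₗ[R] N) (a : M) (p : ℕ) (y : ↥(⋀[R]^p M)) :
    exteriorPower.map (p + 1) D (wg a p y) = wg (D a) p (exteriorPower.map p D y) := by
  suffices h : exteriorPower.map (p + 1) D ∘ₗ wg a p = wg (D a) p ∘ₗ exteriorPower.map p D from
    LinearMap.congr_fun h y
  refine exteriorPower.linearMap_ext (AlternatingMap.ext fun v => ?_)
  simp [wg_ιMulti, exteriorPower.map_apply_ιMulti, Fin.comp_cons]

theorem map_zero_id (D : M →ₗ[R] N) (D' : M →ₗ[R] N) : exteriorPower.map 0 D = exteriorPower.map 0 D' :=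
  exteriorPower.linearMap_ext (AlternatingMap.ext fun v => by
    simp only [LinearMap.compAlternatingMap_apply, exteriorPower.map_apply_ιMulti]
    congr 1
    exact Subsingleton.elim _ _)

variable (D D' : M →ₗ[R] N) (c : R) (w : N)

theorem map_transform (hD : ∀ a, D' a = c • D a + φ a • w) : ∀ (p : ℕ) (x : ↥(⋀[R]^(p + 1) M)),
    exteriorPower.map (p + 1) D' x =
      c ^ (p + 1) • exteriorPower.map (p + 1) D x + c ^ p • wg w p (exteriorPower.map p D (δ φ p x))
  | 0, x => by
    suffices h : exteriorPower.map 1 D' = c ^ 1 • exteriorPower.map 1 D +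
        c ^ 0 • (wg w 0 ∘ₗ exteriorPower.map 0 D ∘ₗ δ φ 0) from LinearMap.congr_fun h x
    refine hom_ext_wg fun a y => ?_
    simp only [map_wg, hD, LinearMap.add_apply, LinearMap.smul_apply, LinearMap.comp_apply, δ_wg_zero, pow_one,
      pow_zero, one_smul, map_zero_id D' D, map_smul, wg_add, wg_smul]
  | p + 1, x => by
    suffices h : exteriorPower.map (p + 2) D' = c ^ (p + 2) • exteriorPower.map (p + 2) D +
        c ^ (p + 1) • (wg w (p + 1) ∘ₗ exteriorPower.map (p + 1) D ∘ₗ δ φ (p + 1)) from LinearMap.congr_fun h x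
    refine hom_ext_wg fun a y => ?_
    simp only [LinearMap.add_apply, LinearMap.smul_apply, LinearMap.comp_apply, δ_wg, map_sub, map_smul, map_wg,
      map_transform hD p y, map_add, hD, wg_add, wg_smul, wg_wg_self, smul_zero, smul_add, add_zero, smul_sub,
      wg_swap w (D a), smul_neg, smul_smul, sub_neg_eq_add]
    module

theorem map_δ_transform (hD : ∀ a, D' a = c • D a + φ a • w) : ∀ (p : ℕ) (x : ↥(⋀[R]^(p + 1) M)),
    exteriorPower.map p D' (δ φ p x) = c ^ p • exteriorPower.map p D (δ φ p x)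
  | 0, x => by rw [pow_zero, one_smul, map_zero_id D' D]
  | p + 1, x => by rw [map_transform φ D D' c w hD, δ_δ, map_zero, map_zero, smul_zero, add_zero]

/-- The composite of contraction and projection. -/
def η (p : ℕ) : ↥(⋀[R]^(p + 1) M) →ₗ[R] ↥(⋀[R]^p N) :=
  exteriorPower.map p D ∘ₗ δ φ p

variable {φ D} {e : M} (he : φ e = 1)

include he in
theorem exact_δ (p : ℕ) (x : ↥(⋀[R]^(p + 1) M)) (hx : δ φ p x = 0) :
    δ φ (p + 1) (wg e (p + 1) x) = x := by
  rw [δ_wg, he, hx, map_zero, sub_zero, one_smul]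

include he in
theorem η_surjective (hDe : D e = 0) (hD : Function.Surjective D) (p : ℕ) :
    Function.Surjective (η φ D p) := by
  intro z
  obtain ⟨x, rfl⟩ := exteriorPower.map_surjective hD z
  refine ⟨wg e p x, ?_⟩
  match p, x with
  | 0, x => rw [η, LinearMap.comp_apply, δ_wg_zero, he, one_smul]
  | p + 1, x =>
    rw [η, LinearMap.comp_apply, δ_wg, he, one_smul, map_sub, map_wg, hDe,
      show wg (R := R) (0 : N) p = 0 by simpa using wg_smul (R := R) (0 : R) (0 : N) p, LinearMap.zero_apply,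
      sub_zero]

theorem sub_map_mem (s : M →ₗ[R] M) (hs : ∀ a, ∃ r : R, a - s a = r • e) :
    ∀ (p : ℕ) (x : ↥(⋀[R]^(p + 1) M)), ∃ y, x - exteriorPower.map (p + 1) s x = wg e p y
  | 0, x => by
    have hspan : x ∈ Submodule.span R (Set.range (exteriorPower.ιMulti R 1 (M := M))) := by
      rw [exteriorPower.ιMulti_span]; trivial
    induction hspan using Submodule.span_induction with
    | mem x hx =>
      obtain ⟨v, rfl⟩ := hx
      rw [← Fin.cons_self_tail v, ← wg_ιMulti, map_wg]
      obtain ⟨r, hr⟩ := hs (v 0)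
      refine ⟨r • exteriorPower.ιMulti R 0 (Fin.tail v), ?_⟩
      conv_lhs => enter [1, 1]; rw [← sub_add_cancel (v 0) (s (v 0)), hr]
      rw [wg_add, LinearMap.add_apply, wg_smul, LinearMap.smul_apply, map_smul, map_zero_id s LinearMap.id,
        exteriorPower.map_id, LinearMap.id_apply, add_sub_cancel_right]
    | zero => exact ⟨0, by simp⟩
    | add a b _ _ ha hb =>
      obtain ⟨y, hy⟩ := ha
      obtain ⟨y', hy'⟩ := hb
      exact ⟨y + y', by rw [map_add, map_add, ← hy, ← hy']; abel⟩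
    | smul r a _ ha =>
      obtain ⟨y, hy⟩ := ha
      exact ⟨r • y, by rw [map_smul, map_smul, ← hy, smul_sub]⟩
  | p + 1, x => by
    have hspan : x ∈ Submodule.span R (Set.range (exteriorPower.ιMulti R (p + 2) (M := M))) := by
      rw [exteriorPower.ιMulti_span]; trivial
    induction hspan using Submodule.span_induction with
    | mem x hx =>
      obtain ⟨v, rfl⟩ := hx
      rw [← Fin.cons_self_tail v, ← wg_ιMulti, map_wg]
      obtain ⟨r, hr⟩ := hs (v 0)
      obtain ⟨y, hy⟩ := sub_map_mem s hs p (exteriorPower.ιMulti R (p + 1) (Fin.tail v))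
      refine ⟨r • exteriorPower.ιMulti R (p + 1) (Fin.tail v) - wg (s (v 0)) p y, ?_⟩
      conv_lhs => enter [1, 1]; rw [← sub_add_cancel (v 0) (s (v 0)), hr]
      rw [wg_add, LinearMap.add_apply, wg_smul, LinearMap.smul_apply, map_sub, map_smul, wg_swap e, ← hy,
        map_sub]
      abel
    | zero => exact ⟨0, by simp⟩
    | add a b _ _ ha hb =>
      obtain ⟨y, hy⟩ := ha
      obtain ⟨y', hy'⟩ := hb
      exact ⟨y + y', by rw [map_add, map_add, ← hy, ← hy']; abel⟩
    | smul r a _ ha =>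
      obtain ⟨y, hy⟩ := ha
      exact ⟨r • y, by rw [map_smul, map_smul, ← hy, smul_sub]⟩

include he in
theorem δ_eq_zero_of_η (σ : N →ₗ[R] M) (hs : ∀ a, ∃ r : R, a - σ (D a) = r • e) :
    ∀ (p : ℕ) (x : ↥(⋀[R]^(p + 1) M)), η φ D p x = 0 → δ φ p x = 0
  | 0, x, hx => by
    obtain ⟨y, hy⟩ : ∃ y, y = δ φ 0 x := ⟨_, rfl⟩
    rw [η, LinearMap.comp_apply, ← hy] at hx
    have h := congrArg (exteriorPower.map 0 σ) hx
    rw [map_zero, ← LinearMap.comp_apply, ← exteriorPower.map_comp, map_zero_id (σ ∘ₗ D) LinearMap.id,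
      exteriorPower.map_id, LinearMap.id_apply] at h
    rw [← hy, h]
  | p + 1, x, hx => by
    rw [η, LinearMap.comp_apply] at hx
    obtain ⟨y, hy⟩ := sub_map_mem (σ ∘ₗ D) hs p (δ φ (p + 1) x)
    rw [exteriorPower.map_comp, LinearMap.comp_apply, hx, map_zero, sub_zero] at hy
    have h0 := congrArg (δ φ p) hy
    rw [δ_δ] at h0
    cases p with
    | zero =>
      rw [δ_wg_zero, he, one_smul] at h0
      rw [hy, ← h0, map_zero]
    | succ q =>
      rw [δ_wg, he, one_smul, eq_comm, sub_eq_zero] at h0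
      rw [hy, h0, wg_wg_self]

end Groth.Agent.OmegaPn.Alg
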