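import Groth.Agent.OmegaPn.Coh
import Groth.Agent.ComodLib.GradedAug

/-!
# Dimensions of the cohomology of twisted sheaves of Koszul cycles
-/

set_option autoImplicit false
set_option linter.style.haveILetI false
set_option linter.unusedSectionVars false
set_option backward.isDefEq.respectTransparency false
set_option backward.isDefEq.respectTransparency.types false
set_option maxHeartbeats 800000

universe u

open CategoryTheory CategoryTheory.Limits AlgebraicGeometry TopologicalSpace Opposite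
open Groth.Agent.PnCoh.Finite (mapLin deltaLin)
open Groth.Agent.CurveCohLib (ker_mapLin_g ker_mapLin_f_succ ker_deltaLin mapLin_f_zero_injective)

noncomputable section

namespace Groth.Agent.OmegaPn

variable {n : ℕ} {d : ℤ}

/-! ### Dimensions over a field -/

/-- The dimension of the sections of `Ω^p(d)`. -/
def bott (n d p : ℕ) : ℕ := (d + n - p).choose d * (d - 1).choose p

theorem bott_add (D p m : ℕ) :
    bott (p + 1 + m) (D + 1) p + bott (p + 1 + m) (D + 1) (p + 1) =
      (p + 2 + m).choose (p + 1) * (D + 1 + m).choose (p + 1 + m) := by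
  simp only [bott, Nat.add_sub_cancel]
  rw [show D + 1 + (p + 1 + m) - p = D + 2 + m by omega, show D + 1 + (p + 1 + m) - (p + 1) = D + 1 + m by omega]
  rcases lt_trichotomy D p with h | h | h
  · simp [Nat.choose_eq_zero_of_lt h, Nat.choose_eq_zero_of_lt (show D < p + 1 by omega),
      Nat.choose_eq_zero_of_lt (show D + 1 + m < p + 1 + m by omega)]
  · subst h
    simp [show D + 2 + m = D + 2 + m from rfl]
  · obtain ⟨r, rfl⟩ : ∃ r, D = p + 1 + r := ⟨D - (p + 1), by omega⟩
    have h1 : (p + 1 + r + 2 + m).choose (p + 1 + r + 1) * (p + 1 + r).choose p +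
        (p + 1 + r + 1 + m).choose (p + 1 + r + 1) * (p + 1 + r).choose (p + 1) =
        (p + 2 + m).choose (p + 1) * (p + 1 + r + 1 + m).choose (p + 1 + m) := by
      rw [← Nat.cast_inj (R := ℚ)]
      push_cast
      rw [Nat.cast_choose ℚ (show p + 1 + r + 1 ≤ p + 1 + r + 2 + m by omega), Nat.cast_choose ℚ (show p ≤ p + 1 + r by omega),
        Nat.cast_choose ℚ (show p + 1 + r + 1 ≤ p + 1 + r + 1 + m by omega), Nat.cast_choose ℚ (show p + 1 ≤ p + 1 + r by omega),
        Nat.cast_choose ℚ (show p + 1 ≤ p + 2 + m by omega), Nat.cast_choose ℚ (show p + 1 + m ≤ p + 1 + r + 1 + m by omega),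
        show p + 1 + r + 2 + m - (p + 1 + r + 1) = m + 1 by omega, show p + 1 + r - p = r + 1 by omega,
        show p + 1 + r + 1 + m - (p + 1 + r + 1) = m by omega, show p + 1 + r - (p + 1) = r by omega,
        show p + 2 + m - (p + 1) = m + 1 by omega, show p + 1 + r + 1 + m - (p + 1 + m) = r + 1 by omega,
        show p + 1 + r + 2 + m = (p + 1 + r + 1 + m) + 1 by omega, show p + 2 + m = (p + 1 + m) + 1 by omega,
        Nat.factorial_succ (p + 1 + r + 1 + m), Nat.factorial_succ (p + 1 + m), Nat.factorial_succ (p + 1 + r),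
        Nat.factorial_succ p, Nat.factorial_succ r, Nat.factorial_succ m]
      push_cast
      have e : ∀ a : ℕ, (a.factorial : ℚ) ≠ 0 := fun a => Nat.cast_ne_zero.2 a.factorial_ne_zero
      have e' : ∀ a : ℕ, (a : ℚ) + 1 ≠ 0 := fun a => by positivity
      field_simp
      ring
    exact h1

section Field

variable {k : Type u} [Field k] {F : (CohB1.ProjSpace n k).Modules ⥤ (CohB1.ProjSpace n k).Modules} [F.Additive]

theorem finrank_W (hF : IsTw n k d F) (p q : ℕ) {c : ℕ}
    (h : Module.Finite k (Coh.HH (CohB1.ProjSpace n k) (Twist.twistProjSpace n k (d - p)) q) ∧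
      Module.finrank k (Coh.HH (CohB1.ProjSpace n k) (Twist.twistProjSpace n k (d - p)) q) = c) :
    Module.Finite k (Coh.HH (CohB1.ProjSpace n k) (F.obj (W n k p)) q) ∧
      Module.finrank k (Coh.HH (CohB1.ProjSpace n k) (F.obj (W n k p)) q) = (n + 1).choose p * c := by
  haveI : Fintype (Idx n p) := Fintype.ofFinite _
  let e := HHiso k (hF.obj_O p).some q
  haveI := h.1
  haveI : Module.Finite k (Coh.HH (CohB1.ProjSpace n k) (F.obj (O n k p)) q) := Module.Finite.equiv e.symm
  let s := HHsum k F (fun _ : Idx n p => O n k p) q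
  refine ⟨Module.Finite.equiv s.symm, ?_⟩
  rw [s.finrank_eq, Module.finrank_pi_fintype, Finset.sum_const, Finset.card_univ, smul_eq_mul, e.finrank_eq, h.2,
    ← Nat.card_eq_fintype_card, natCard_Idx]

theorem finrank_twist_zero (hn : 1 ≤ n) (d p : ℕ) :
    Module.Finite k (Coh.HH (CohB1.ProjSpace n k) (Twist.twistProjSpace n k ((d : ℤ) - p)) 0) ∧
      Module.finrank k (Coh.HH (CohB1.ProjSpace n k) (Twist.twistProjSpace n k ((d : ℤ) - p)) 0) = (n + d - p).choose n := by
  rcases Nat.lt_or_ge d p with h | h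
  · haveI := Groth.Agent.S0844.result k n ((d : ℤ) - p) 0 (by omega) (by omega)
    exact ⟨inferInstance, by rw [Module.finrank_zero_of_subsingleton, Nat.choose_eq_zero_of_lt (by omega)]⟩
  · obtain ⟨e⟩ := Groth.Agent.S0843.result k n (d - p)
    rw [show ((d : ℤ) - p) = ((d - p : ℕ) : ℤ) by omega]
    obtain ⟨h1, h2⟩ := ComodLib.GradedAug.finrank_homogeneous (k := k) (n + 1) (d - p)
    haveI := h1
    refine ⟨Module.Finite.equiv e.symm, ?_⟩
    rw [e.finrank_eq, h2, show n + 1 + (d - p) - 1 = n + d - p by omega]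
    exact Nat.choose_symm_of_eq_add (by omega)

theorem finrank_twist_top (hn : 1 ≤ n) (e p : ℕ) :
    Module.Finite k (Coh.HH (CohB1.ProjSpace n k) (Twist.twistProjSpace n k (-(e : ℤ) - p)) n) ∧
      Module.finrank k (Coh.HH (CohB1.ProjSpace n k) (Twist.twistProjSpace n k (-(e : ℤ) - p)) n) = (e + p - 1).choose n := by
  rcases Nat.lt_or_ge n (e + p) with h | h
  · obtain ⟨j, hj⟩ : ∃ j, e + p = n + 1 + j := ⟨e + p - (n + 1), by omega⟩
    obtain ⟨φ⟩ := Groth.Agent.S0845.result k n j
    rw [show (-(e : ℤ) - p) = -((n : ℤ) + 1 + j) by omega]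
    obtain ⟨h1, h2⟩ := ComodLib.GradedAug.finrank_homogeneous (k := k) (n + 1) j
    haveI := h1
    refine ⟨Module.Finite.equiv φ.symm, ?_⟩
    rw [φ.finrank_eq, h2, show n + 1 + j - 1 = n + j by omega, show e + p - 1 = n + j by omega]
    exact Nat.choose_symm_of_eq_add (by omega)
  · haveI := Groth.Agent.S0844.result k n (-(e : ℤ) - p) n (by omega) (by omega)
    exact ⟨inferInstance, by rw [Module.finrank_zero_of_subsingleton, Nat.choose_eq_zero_of_lt (by omega)]⟩

theorem finrank_Z_zero (hn : 1 ≤ n) {d : ℕ} (hd : 1 ≤ d) (hF : IsTw n k (d : ℤ) F) : ∀ p, p ≤ n →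
    Module.Finite k (Coh.HH (CohB1.ProjSpace n k) (F.obj (Z n k p)) 0) ∧
      Module.finrank k (Coh.HH (CohB1.ProjSpace n k) (F.obj (Z n k p)) 0) = bott n d p := by
  intro p
  induction p with
  | zero =>
    intro _
    obtain ⟨h1, h2⟩ := finrank_W hF 0 0 (finrank_twist_zero (k := k) hn d 0)
    refine ⟨h1, h2.trans ?_⟩
    rw [bott, Nat.choose_zero_right, Nat.choose_zero_right, one_mul, mul_one, Nat.sub_zero, add_comm n d]
    exact (Nat.choose_symm_add).symm
  | succ p ih =>
    intro hp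
    obtain ⟨hW1, hW2⟩ := finrank_W hF (p + 1) 0 (finrank_twist_zero (k := k) hn d (p + 1))
    have hS := hF.exact (shortExact_sc n k p)
    obtain ⟨h1, h3, hadd⟩ := finrank_add (k := k) hS 0 (mapLin_f_zero_injective k hS)
      (surjective_g k hS 0 (Z_van_pos hF (by omega) (p + 1) 1 one_pos)) hW1
    refine ⟨h1, ?_⟩
    have hadd' : bott n d p + Module.finrank k (Coh.HH (CohB1.ProjSpace n k) (F.obj (Z n k (p + 1))) 0) =
        (n + 1).choose (p + 1) * (n + d - (p + 1)).choose n := by
      rw [← (ih (by omega)).2, ← hW2]; exact hadd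
    obtain ⟨m, rfl⟩ : ∃ m, n = p + 1 + m := ⟨n - (p + 1), by omega⟩
    obtain ⟨D, rfl⟩ : ∃ D, d = D + 1 := ⟨d - 1, by omega⟩
    have hb := bott_add D p m
    rw [show p + 1 + m + 1 = p + 2 + m by omega, show p + 1 + m + (D + 1) - (p + 1) = D + 1 + m by omega] at hadd'
    omega

theorem finrank_Z_top (hn : 1 ≤ n) {e : ℕ} (he : 1 ≤ e) (hF : IsTw n k (-(e : ℤ)) F) : ∀ p, p ≤ n →
    Module.Finite k (Coh.HH (CohB1.ProjSpace n k) (F.obj (Z n k p)) n) ∧
      Module.finrank k (Coh.HH (CohB1.ProjSpace n k) (F.obj (Z n k p)) n) = bott n e (n - p) := by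
  intro p
  induction p with
  | zero =>
    intro _
    obtain ⟨h1, h2⟩ := finrank_W hF 0 n (finrank_twist_top (k := k) hn e 0)
    refine ⟨h1, h2.trans ?_⟩
    rw [bott, Nat.sub_zero, Nat.choose_zero_right, one_mul, Nat.add_sub_cancel, Nat.choose_self, one_mul, Nat.add_zero]
  | succ p ih =>
    intro hp
    obtain ⟨hW1, hW2⟩ := finrank_W hF (p + 1) n (finrank_twist_top (k := k) hn e (p + 1))
    have hS := hF.exact (shortExact_sc n k p)
    obtain ⟨n', rfl⟩ : ∃ n', n = n' + 1 := ⟨n - 1, by omega⟩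
    obtain ⟨h1, h3, hadd⟩ := finrank_add (k := k) hS (n' + 1)
      (injective_f_succ k hS n' (Z_van_neg hF (by omega) p n' (by omega)))
      (surjective_g k hS (n' + 1) (Z_van_high hF (n' + 1 + 1) (by omega) (p + 1))) hW1
    refine ⟨h1, ?_⟩
    have hadd' : bott (n' + 1) e (n' + 1 - p) + Module.finrank k (Coh.HH (CohB1.ProjSpace (n' + 1) k) (F.obj (Z (n' + 1) k (p + 1))) (n' + 1)) =
        (n' + 1 + 1).choose (p + 1) * (e + (p + 1) - 1).choose (n' + 1) := by
      rw [← (ih (by omega)).2, ← hW2]; exact hadd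
    obtain ⟨a, rfl⟩ : ∃ a, n' = p + a := ⟨n' - p, by omega⟩
    obtain ⟨D, rfl⟩ : ∃ D, e = D + 1 := ⟨e - 1, by omega⟩
    have hb := bott_add D a p
    generalize Module.finrank k (Coh.HH (CohB1.ProjSpace (p + a + 1) k) (F.obj (Z (p + a + 1) k (p + 1))) (p + a + 1)) = x at hadd' ⊢
    rw [show p + a + 1 = a + 1 + p by omega] at hadd' ⊢
    rw [show a + 1 + p - p = a + 1 by omega, show a + 1 + p + 1 = a + 2 + p by omega, show D + 1 + (p + 1) - 1 = D + 1 + p by omega,
      Nat.choose_symm_of_eq_add (show a + 2 + p = (p + 1) + (a + 1) by omega)] at hadd'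
    rw [show a + 1 + p - (p + 1) = a by omega]
    omega

end Field

end Groth.Agent.OmegaPn
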