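import Groth.Agent.OmegaPn.Chart
import Groth.Agent.OmegaPn.Alg
import Groth.Prelude.Def_ExtPow2

/-!
# The Koszul complex of projective space and its map onto the exterior powers of the differentials
-/

set_option autoImplicit false
set_option linter.style.haveILetI false
set_option linter.unusedSectionVars false
set_option backward.isDefEq.respectTransparency false
set_option backward.isDefEq.respectTransparency.types false

set_option maxHeartbeats 1200000

universe u

open CategoryTheory CategoryTheory.Limits AlgebraicGeometry TopologicalSpace Opposite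

noncomputable section

namespace Groth.Agent.OmegaPn

open Groth.Agent.AModX Groth.Agent.ExtShX.PnOmegaOver Set.powersetCard

instance hasFiniteBiproducts_modules (X : Scheme.{u}) : HasFiniteBiproducts X.Modules :=
  Abelian.hasFiniteBiproducts

variable (n : ℕ) (A : Type u) [CommRing A]


/-- The index set of the Koszul complex. -/
abbrev Idx (p : ℕ) : Type := Set.powersetCard (Fin (n + 1)) p

/-- `O(-m)`. -/
abbrev O (m : ℕ) : (CohB1.ProjSpace n A).Modules := Twist.twistProjSpace n A (-(m : ℤ))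

/-- The terms of the Koszul complex. -/
abbrev W (p : ℕ) : (CohB1.ProjSpace n A).Modules := ⨁ fun _ : Idx n p => O n A p

variable {n} in
/-- Deleting the `k`-th element. -/
def er {p : ℕ} (S : Idx n (p + 1)) (k : Fin (p + 1)) : Idx n p :=
  ofFinEmbEquiv ((Fin.succAboveOrderEmb k).trans (ofFinEmbEquiv.symm S))

theorem er_symm {p : ℕ} (S : Idx n (p + 1)) (k : Fin (p + 1)) (r : Fin p) :
    ofFinEmbEquiv.symm (er S k) r = ofFinEmbEquiv.symm S (k.succAbove r) := by
  rw [er, Equiv.symm_apply_apply]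
  rfl

variable {M N P : (CohB1.ProjSpace n A).Modules} {Q : (CohB1.ProjSpace n A).Opens}

/-- A morphism of modules on sections, as a linear map. -/
def appLin (g : M ⟶ N) (Q : (CohB1.ProjSpace n A).Opens) : Γ(M, Q) →ₗ[Γ((CohB1.ProjSpace n A), Q)] Γ(N, Q) where
  toFun x := g.app Q x
  map_add' x y := map_add (g.app Q).hom x y
  map_smul' r x := Scheme.Modules.Hom.app_smul g r x

theorem appLin_apply (g : M ⟶ N) (x : Γ(M, Q)) : appLin n A g Q x = g.app Q x := rfl

theorem comp_app_apply (g : M ⟶ N) (g' : N ⟶ P) (x : Γ(M, Q)) : (g ≫ g').app Q x = g'.app Q (g.app Q x) := by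
  rw [Scheme.Modules.Hom.comp_app]
  rfl

/-- Evaluation at a section. -/
def evalHom (x : Γ(M, Q)) : (M ⟶ N) →+ Γ(N, Q) :=
  AddMonoidHom.mk' (fun g => g.app Q x) fun g g' => by rw [Scheme.Modules.Hom.add_app]; rfl

variable {i : Fin (n + 1)}

/-- The coordinates on a chart. -/
def t (hi : Q ≤ DD n A i) (j : Fin (n + 1)) : Γ((CohB1.ProjSpace n A), Q) := resR hi (a n A i j)

theorem t_self (hi : Q ≤ DD n A i) : t n A hi i = 1 := by rw [t, a_self, map_one]

/-- Coordinates as a linear form. -/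
def tf (hi : Q ≤ DD n A i) : (Fin (n + 1) → Γ((CohB1.ProjSpace n A), Q)) →ₗ[Γ((CohB1.ProjSpace n A), Q)] Γ((CohB1.ProjSpace n A), Q) :=
  (Pi.basisFun Γ((CohB1.ProjSpace n A), Q) (Fin (n + 1))).constr Γ((CohB1.ProjSpace n A), Q) (t n A hi)

theorem tf_basis (hi : Q ≤ DD n A i) (j : Fin (n + 1)) :
    tf n A hi (Pi.basisFun Γ((CohB1.ProjSpace n A), Q) (Fin (n + 1)) j) = t n A hi j := Module.Basis.constr_basis _ _ _ _

/-- The sections of the differentials. -/
abbrev ΩQ (Q : (CohB1.ProjSpace n A).Opens) := (Omega.sheaf (CohB1.ProjSpace.toSpec n A)).val.obj (op Q)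

/-- The differential of a function. -/
def dd (Q : (CohB1.ProjSpace n A).Opens) (x : Γ((CohB1.ProjSpace n A), Q)) : ΩQ n A Q :=
  show Γ(Omega.sheaf (CohB1.ProjSpace.toSpec n A), Q) from
    (OmegaSh.dOmega (CohB1.ProjSpace.toSpec n A)).app Q x

theorem dd_mul (Q : (CohB1.ProjSpace n A).Opens) (x y : Γ((CohB1.ProjSpace n A), Q)) :
    dd n A Q (x * y) = x • dd n A Q y + y • dd n A Q x :=
  Synt29.OmegaStalk.app_mul _ _ Q x y

theorem dd_one (Q : (CohB1.ProjSpace n A).Opens) : dd n A Q 1 = 0 := by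
  have h := dd_mul n A Q 1 1
  rw [mul_one, one_smul] at h
  exact left_eq_add.1 h

/-- The projection to the differentials. -/
def Df (hi : Q ≤ DD n A i) : (Fin (n + 1) → Γ((CohB1.ProjSpace n A), Q)) →ₗ[Γ((CohB1.ProjSpace n A), Q)] ΩQ n A Q :=
  (Pi.basisFun Γ((CohB1.ProjSpace n A), Q) (Fin (n + 1))).constr Γ((CohB1.ProjSpace n A), Q) fun j => dd n A Q (t n A hi j)

theorem Df_basis (hi : Q ≤ DD n A i) (j : Fin (n + 1)) :
    Df n A hi (Pi.basisFun Γ((CohB1.ProjSpace n A), Q) (Fin (n + 1)) j) = dd n A Q (t n A hi j) := Module.Basis.constr_basis _ _ _ _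

/-- The basis of the exterior power. -/
abbrev eb (p : ℕ) (Q : (CohB1.ProjSpace n A).Opens) : Module.Basis (Idx n p) Γ((CohB1.ProjSpace n A), Q) (⋀[Γ((CohB1.ProjSpace n A), Q)]^p (Fin (n + 1) → Γ((CohB1.ProjSpace n A), Q))) :=
  (Pi.basisFun Γ((CohB1.ProjSpace n A), Q) (Fin (n + 1))).exteriorPower p

theorem eb_apply (p : ℕ) (S : Idx n p) : eb n A p Q S =
    exteriorPower.ιMulti Γ((CohB1.ProjSpace n A), Q) p fun r => Pi.basisFun Γ((CohB1.ProjSpace n A), Q) (Fin (n + 1)) (ofFinEmbEquiv.symm S r) := by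
  rw [eb, exteriorPower.basis_apply]
  rfl

theorem removeNth_eb {p : ℕ} (S : Idx n (p + 1)) (k : Fin (p + 1)) :
    exteriorPower.ιMulti Γ((CohB1.ProjSpace n A), Q) p
      (k.removeNth fun r => Pi.basisFun Γ((CohB1.ProjSpace n A), Q) (Fin (n + 1)) (ofFinEmbEquiv.symm S r)) =
      eb n A p Q (er S k) := by
  rw [eb_apply]
  congr 1
  funext r
  rw [er_symm]
  rfl

/-- The frame of `O(-p)` on an open of a chart. -/
def fr (p : ℕ) (hi : Q ≤ DD n A i) : Γ(O n A p, Q) := res _ hi (pw n A (-(p : ℤ)) i)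

theorem isFrame_fr (p : ℕ) (hi : Q ≤ DD n A i) : InvX.IsFrame (fr n A p hi) :=
  (isFrame_pw n A _ i).res hi

/-- The basis vectors of the Koszul terms on a chart. -/
def wb (p : ℕ) (hi : Q ≤ DD n A i) (S : Idx n p) : Γ(W n A p, Q) :=
  (biproduct.ι (fun _ : Idx n p => O n A p) S).app Q (fr n A p hi)

theorem wb_bijective (p : ℕ) (hi : Q ≤ DD n A i) :
    Function.Bijective (Fintype.linearCombination Γ((CohB1.ProjSpace n A), Q) (wb n A p hi)) := by
  classical
  have hπ : ∀ (c : Idx n p → Γ((CohB1.ProjSpace n A), Q)) (T : Idx n p),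
      (biproduct.π (fun _ : Idx n p => O n A p) T).app Q (Fintype.linearCombination Γ((CohB1.ProjSpace n A), Q) (wb n A p hi) c) =
        c T • fr n A p hi := by
    intro c T
    rw [Fintype.linearCombination_apply, map_sum]
    refine (Finset.sum_eq_single T (fun S _ hS => ?_) (fun h => absurd (Finset.mem_univ T) h)).trans ?_
    · rw [Scheme.Modules.Hom.app_smul, wb, ← comp_app_apply, biproduct.ι_π_ne _ hS, Scheme.Modules.Hom.zero_app]
      exact smul_zero _
    · rw [Scheme.Modules.Hom.app_smul, wb, ← comp_app_apply, biproduct.ι_π_self, Scheme.Modules.Hom.id_app]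
      rfl
  refine ⟨fun c c' h => funext fun T => (isFrame_fr n A p hi).coord_unique le_rfl ?_, fun x => ?_⟩
  · rw [res_self]
    exact (hπ c T).symm.trans ((congrArg _ h).trans (hπ c' T))
  · have hx := fun S => (isFrame_fr n A p hi).exists_coord le_rfl
      ((biproduct.π (fun _ : Idx n p => O n A p) S).app Q x)
    choose c hc using hx
    refine ⟨c, ?_⟩
    rw [Fintype.linearCombination_apply]
    conv_rhs => rw [← (show evalHom n A x (𝟙 (W n A p)) = x from rfl), ← biproduct.total, map_sum]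
    refine Finset.sum_congr rfl fun S _ => ?_
    show _ = (biproduct.π (fun _ : Idx n p => O n A p) S ≫ biproduct.ι (fun _ : Idx n p => O n A p) S).app Q x
    rw [comp_app_apply, hc S, res_self, Scheme.Modules.Hom.app_smul]
    rfl

/-- The basis of the sections of the Koszul terms. -/
def wBasis (p : ℕ) (hi : Q ≤ DD n A i) : Module.Basis (Idx n p) Γ((CohB1.ProjSpace n A), Q) Γ(W n A p, Q) :=
  Module.Basis.ofEquivFun (LinearEquiv.ofBijective _ (wb_bijective n A p hi)).symm

theorem wBasis_apply (p : ℕ) (hi : Q ≤ DD n A i) (S : Idx n p) : wBasis n A p hi S = wb n A p hi S := by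
  classical
  simp [wBasis, Fintype.linearCombination_apply, Pi.single_apply]

/-- Sections of the Koszul terms as an exterior power. -/
def Θ (p : ℕ) (hi : Q ≤ DD n A i) :
    ⋀[Γ((CohB1.ProjSpace n A), Q)]^p (Fin (n + 1) → Γ((CohB1.ProjSpace n A), Q)) ≃ₗ[Γ((CohB1.ProjSpace n A), Q)] Γ(W n A p, Q) :=
  (eb n A p Q).equiv (wBasis n A p hi) (Equiv.refl _)

theorem Θ_eb (p : ℕ) (hi : Q ≤ DD n A i) (S : Idx n p) : Θ n A p hi (eb n A p Q S) = wb n A p hi S := by
  rw [Θ, Module.Basis.equiv_apply, Equiv.refl_apply, wBasis_apply]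

/-- Multiplication by a coordinate. -/
def μ (m : ℕ) (j : Fin (n + 1)) : O n A (m + 1) ⟶ O n A m :=
  InvX.ofFrames (U := fun i : ULift.{u} (Fin (n + 1)) => DD n A i.down)
    (e := fun i => (pw n A (-((m + 1 : ℕ) : ℤ)) i.down : Γ(O n A (m + 1), DD n A i.down)))
    (n := fun i => a n A i.down j • (pw n A (-(m : ℤ)) i.down : Γ(O n A m, DD n A i.down)))
    (iSup_DD n A) (fun i => isFrame_pw n A _ i.down) (fun i l W hi hl g hg => by
      have hg' : g = resR hl (a n A l.down i.down) ^ (m + 1) :=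
        (isFrame_pw n A _ i.down).coord_unique hi (hg.symm.trans (res_pw n A (m + 1) i.down l.down hi hl))
      rw [res_smul, res_smul, res_pw n A m i.down l.down hi hl, a_trans n A i.down l.down j hi hl, hg', smul_smul,
        smul_smul, pow_succ]
      congr 1
      ring)

theorem μ_fr (m : ℕ) (j : Fin (n + 1)) (hi : Q ≤ DD n A i) :
    (μ n A m j).app Q (fr n A (m + 1) hi) = t n A hi j • fr n A m hi := by
  refine (InvX.ofFrames_app_res (U := fun i : ULift.{u} (Fin (n + 1)) => DD n A i.down) _ _ _ ⟨i⟩ hi).trans ?_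
  exact res_smul _ _ _

/-- The Koszul differential. -/
def δS (p : ℕ) : W n A (p + 1) ⟶ W n A p :=
  biproduct.desc fun S => ∑ k : Fin (p + 1),
    ((-1 : ℤ) ^ (k : ℕ)) • (μ n A p (ofFinEmbEquiv.symm S k) ≫ biproduct.ι (fun _ : Idx n p => O n A p) (er S k))

theorem δS_Θ (p : ℕ) (hi : Q ≤ DD n A i) (y : ⋀[Γ((CohB1.ProjSpace n A), Q)]^(p + 1) (Fin (n + 1) → Γ((CohB1.ProjSpace n A), Q))) :
    (δS n A p).app Q (Θ n A (p + 1) hi y) = Θ n A p hi (Alg.δ (tf n A hi) p y) := by
  suffices h : appLin n A (δS n A p) Q ∘ₗ (Θ n A (p + 1) hi).toLinearMap =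
      (Θ n A p hi).toLinearMap ∘ₗ Alg.δ (tf n A hi) p from LinearMap.congr_fun h y
  refine (eb n A (p + 1) Q).ext fun S => ?_
  simp only [LinearMap.comp_apply, LinearEquiv.coe_coe, Θ_eb, appLin_apply]
  rw [eb_apply, Alg.δ_ιMulti, map_sum, wb, ← comp_app_apply, δS, biproduct.ι_desc]
  refine (map_sum (evalHom n A (N := W n A p) (fr n A (p + 1) hi)) _ _).trans (Finset.sum_congr rfl fun k _ => ?_)
  refine (map_zsmul (evalHom n A (N := W n A p) (fr n A (p + 1) hi)) _ _).trans ?_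
  rw [map_zsmul, removeNth_eb, tf_basis, map_smul, Θ_eb]
  show _ • (μ n A p _ ≫ _).app Q _ = _
  rw [comp_app_apply, μ_fr, Scheme.Modules.Hom.app_smul]
  rfl

section Eta

variable {L : (CohB1.ProjSpace n A).Modules} {p : ℕ}
  (φ : ∀ U : (CohB1.ProjSpace n A).affineOpens, (L.val.obj (op U.1)) ≃ₗ[Γ((CohB1.ProjSpace n A), U.1)]
    ↥(⋀[Γ((CohB1.ProjSpace n A), U.1)]^p ((Omega.sheaf (CohB1.ProjSpace.toSpec n A)).val.obj (op U.1))))
  (hφ : ∀ (U V : (CohB1.ProjSpace n A).affineOpens) (h : V.1 ≤ U.1)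
    (e : Fin p → (Omega.sheaf (CohB1.ProjSpace.toSpec n A)).val.obj (op U.1)),
    L.val.map (homOfLE h).op ((φ U).symm (exteriorPower.ιMulti _ p e)) =
      (φ V).symm (exteriorPower.ιMulti _ p (fun j => (Omega.sheaf (CohB1.ProjSpace.toSpec n A)).val.map (homOfLE h).op (e j))))

theorem η_eb (hi : Q ≤ DD n A i) (S : Idx n (p + 1)) :
    Alg.η (tf n A hi) (Df n A hi) p (eb n A (p + 1) Q S) =
      ∑ k : Fin (p + 1), (-1 : ℤ) ^ (k : ℕ) • t n A hi (ofFinEmbEquiv.symm S k) •
        exteriorPower.ιMulti Γ((CohB1.ProjSpace n A), Q) p fun r => dd n A Q (t n A hi (ofFinEmbEquiv.symm S (k.succAbove r))) := by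
  rw [Alg.η, LinearMap.comp_apply, eb_apply, Alg.δ_ιMulti, map_sum]
  refine Finset.sum_congr rfl fun k _ => ?_
  rw [map_zsmul, map_smul, exteriorPower.map_apply_ιMulti, tf_basis]
  congr 3
  funext r
  exact Df_basis n A hi _

/-- The image of a basis vector. -/
def ηv (U : (CohB1.ProjSpace n A).affineOpens) (hi : U.1 ≤ DD n A i) (S : Idx n (p + 1)) : Γ(L, U.1) :=
  show Γ(L, U.1) from (φ U).symm (Alg.η (tf n A hi) (Df n A hi) p (eb n A (p + 1) U.1 S))

include hφ in
theorem res_ηv (U V : (CohB1.ProjSpace n A).affineOpens) (h : V.1 ≤ U.1) (hi : U.1 ≤ DD n A i) (S : Idx n (p + 1)) :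
    res L h (ηv n A φ U hi S) = ηv n A φ V (h.trans hi) S := by
  rw [ηv, ηv, η_eb, η_eb, map_sum, map_sum, map_sum]
  refine Finset.sum_congr rfl fun k _ => ?_
  rw [map_zsmul, map_zsmul, map_zsmul]
  congr 1
  refine (congrArg (res L h) (map_smul (φ U).symm _ _)).trans ((res_smul _ _ _).trans (Eq.trans ?_ (map_smul (φ V).symm _ _).symm))
  rw [t, resR_resR]
  congr 1
  refine (hφ U V h _).trans ?_
  congr 2
  funext r
  refine (Synt29.OmegaStalk.app_res _ _ (homOfLE h) _).symm.trans ?_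
  exact congrArg (dd n A V.1) (resR_resR _ _ _)

include hφ in
theorem ηv_trans (i l : Fin (n + 1)) (U : (CohB1.ProjSpace n A).affineOpens) (hi : U.1 ≤ DD n A i) (hl : U.1 ≤ DD n A l)
    (S : Idx n (p + 1)) :
    ηv n A φ U hl S = resR hl (a n A l i) ^ (p + 1) • ηv n A φ U hi S := by
  let c := resR hl (a n A l i)
  have ht : ∀ j, t n A hl j = c * t n A hi j := fun j => a_trans n A i l j hi hl
  have htf : tf n A hl = c • tf n A hi := (Pi.basisFun _ _).ext fun j => by
    rw [LinearMap.smul_apply, tf_basis, tf_basis, ht, smul_eq_mul]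
  have hD : ∀ x, Df n A hl x = c • Df n A hi x + tf n A hi x • dd n A U.1 c := by
    intro x
    suffices h : Df n A hl = c • Df n A hi + (tf n A hi).smulRight (dd n A U.1 c) from LinearMap.congr_fun h x
    refine (Pi.basisFun _ _).ext fun j => ?_
    rw [LinearMap.add_apply, LinearMap.smul_apply, LinearMap.smulRight_apply, Df_basis, Df_basis, tf_basis, ht,
      dd_mul]
  show (φ U).symm _ = _ • (φ U).symm _
  rw [← map_smul]
  congr 1
  rw [Alg.η, Alg.η, LinearMap.comp_apply, LinearMap.comp_apply, htf, Alg.δ_smul, LinearMap.smul_apply, map_smul,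
    Alg.map_δ_transform (tf n A hi) (Df n A hi) (Df n A hl) c (dd n A U.1 c) hD, smul_smul, pow_succ', mul_comm]

/-- The component of the map to the exterior power. -/
def ηc (S : Idx n (p + 1)) : O n A (p + 1) ⟶ L :=
  InvX.ofFrames (U := fun i : ULift.{u} (Fin (n + 1)) => DD n A i.down)
    (e := fun i => (pw n A (-((p + 1 : ℕ) : ℤ)) i.down : Γ(O n A (p + 1), DD n A i.down)))
    (n := fun i => ηv n A φ ⟨DD n A i.down, isAffineOpen_DD n A i.down⟩ le_rfl S)
    (iSup_DD n A) (fun i => isFrame_pw n A _ i.down) (fun i l V hi hl g hg => by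
      have hg' : g = resR hl (a n A l.down i.down) ^ (p + 1) :=
        (isFrame_pw n A _ i.down).coord_unique hi (hg.symm.trans (res_pw n A (p + 1) i.down l.down hi hl))
      refine eq_of_locally _ _ fun x hx => ?_
      obtain ⟨_, ⟨Q, hQ, rfl⟩, hxQ, hQV⟩ := (CohB1.ProjSpace n A).isBasis_affineOpens.exists_subset_of_mem_open hx V.2
      refine ⟨Q, hQV, hxQ, ?_⟩
      rw [res_smul, res_res, res_res, hg', map_pow, resR_resR,
        res_ηv n A φ hφ ⟨DD n A i.down, isAffineOpen_DD n A i.down⟩ ⟨Q, hQ⟩,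
        res_ηv n A φ hφ ⟨DD n A l.down, isAffineOpen_DD n A l.down⟩ ⟨Q, hQ⟩]
      exact ηv_trans n A φ hφ i.down l.down ⟨Q, hQ⟩ _ _ S)

/-- The map of the Koszul term onto the exterior power of the differentials. -/
def ηS : W n A (p + 1) ⟶ L := biproduct.desc fun S => ηc n A φ hφ S

theorem ηS_Θ (U : (CohB1.ProjSpace n A).affineOpens) (hi : U.1 ≤ DD n A i) (y : ⋀[Γ((CohB1.ProjSpace n A), U.1)]^(p + 1) (Fin (n + 1) → Γ((CohB1.ProjSpace n A), U.1))) :
    (ηS n A φ hφ).app U.1 (Θ n A (p + 1) hi y) =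
      (show Γ(L, U.1) from (φ U).symm (Alg.η (tf n A hi) (Df n A hi) p y)) := by
  suffices h : appLin n A (ηS n A φ hφ) U.1 ∘ₗ (Θ n A (p + 1) hi).toLinearMap =
      (show ↥(⋀[Γ((CohB1.ProjSpace n A), U.1)]^p (ΩQ n A U.1)) →ₗ[Γ((CohB1.ProjSpace n A), U.1)] Γ(L, U.1) from (φ U).symm.toLinearMap) ∘ₗ
        Alg.η (tf n A hi) (Df n A hi) p from LinearMap.congr_fun h y
  refine (eb n A (p + 1) U.1).ext fun S => ?_
  simp only [LinearMap.comp_apply, LinearEquiv.coe_coe, Θ_eb, appLin_apply]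
  rw [wb, ← comp_app_apply, ηS, biproduct.ι_desc]
  refine (InvX.ofFrames_app_res (U := fun i : ULift.{u} (Fin (n + 1)) => DD n A i.down) _ _ _ ⟨i⟩ hi).trans ?_
  exact res_ηv n A φ hφ ⟨DD n A i, isAffineOpen_DD n A i⟩ U hi le_rfl S

end Eta

end Groth.Agent.OmegaPn
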