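import Groth.Agent.OmegaPn.Bott
import Groth.Agent.Lib.PnDualTwistAdj
import Groth.Agent.Lib.CurveSpecial
import Groth.Agent.QCoh.Ab.LerayNat

/-!
# Endomorphisms of the Koszul cycles in degree one
-/

set_option autoImplicit false
set_option linter.style.haveILetI false
set_option linter.unusedSectionVars false
set_option backward.isDefEq.respectTransparency false
set_option backward.isDefEq.respectTransparency.types false
set_option maxHeartbeats 800000

universe u

open CategoryTheory CategoryTheory.Limits AlgebraicGeometry TopologicalSpace Opposite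
open Groth.Agent.PnCoh.Finite (mapLin deltaLin)

noncomputable section

namespace Groth.Agent.OmegaPn

/-- A morphism out of `O` into a module without sections vanishes. -/
theorem hom_eq_zero_of_h0 {X : Scheme.{u}} {P : X.Modules} (h : Subsingleton (Coh.HH X P 0))
    (φ : Coh.structureModule X ⟶ P) : φ = 0 := by
  refine CurveRR.hom_ext_one ?_
  have h' : Subsingleton Γ(P, ⊤) :=
    (Sheaf.H.equiv₀ (Coh.toAb P) isTerminalTop).symm.toEquiv.subsingleton
  exact Subsingleton.elim _ _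

/-- The cokernel of the second map into a pushout of a monomorphism. -/
theorem shortExact_pushout {C : Type*} [Category C] [Abelian C] {S : ShortComplex C} (hS : S.ShortExact)
    {Y : C} (ψ : S.X₁ ⟶ Y) :
    (ShortComplex.mk (pushout.inr S.f ψ : Y ⟶ pushout S.f ψ) (pushout.desc S.g 0 (by rw [S.zero, comp_zero]))
      (pushout.inr_desc _ _ _)).ShortExact := by
  haveI : Mono S.f := hS.mono_f
  haveI : Epi S.g := hS.epi_g
  let π := pushout.desc S.g (0 : Y ⟶ S.X₃) (show S.f ≫ S.g = ψ ≫ 0 by rw [S.zero, comp_zero])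
  haveI : Epi π := epi_of_epi_fac (pushout.inl_desc S.g (0 : Y ⟶ S.X₃) (show S.f ≫ S.g = ψ ≫ 0 by rw [S.zero, comp_zero]))
  haveI : Mono (pushout.inr S.f ψ) := inferInstance
  have hex : (ShortComplex.mk (pushout.inr S.f ψ) π (pushout.inr_desc _ _ _)).Exact := by
    refine ShortComplex.exact_of_g_is_cokernel _ (CokernelCofork.IsColimit.ofπ' _ _ fun {T} k hk => ?_)
    have hk' : S.f ≫ pushout.inl S.f ψ ≫ k = 0 := by rw [pushout.condition_assoc, hk, comp_zero]
    refine ⟨hS.exact.desc (pushout.inl S.f ψ ≫ k) hk', pushout.hom_ext ?_ ?_⟩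
    · rw [pushout.inl_desc_assoc]
      exact hS.exact.g_desc _ _
    · rw [pushout.inr_desc_assoc, zero_comp, hk]
  exact { exact := hex }

/-- A morphism to which the extension class pushes forward trivially extends. -/
theorem exists_extend {X : Scheme.{u}} (A : Type u) [CommRing A] [X.Over (Spec (CommRingCat.of A))]
    {S : ShortComplex X.Modules} (hS : S.ShortExact) (e : S.X₃ ≅ Coh.structureModule X) {Y : X.Modules}
    (ψ : S.X₁ ⟶ Y) (h : ∀ t : Coh.HH X S.X₃ 0, mapLin A ψ 1 (deltaLin A hS 0 t) = 0) :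
    ∃ η : S.X₂ ⟶ Y, S.f ≫ η = ψ := by
  let S' := ShortComplex.mk (pushout.inr S.f ψ : Y ⟶ pushout S.f ψ) (pushout.desc S.g 0 (by rw [S.zero, comp_zero]))
    (pushout.inr_desc _ _ _)
  have hS' : S'.ShortExact := shortExact_pushout hS ψ
  let Φ : S ⟶ S' :=
    { τ₁ := ψ, τ₂ := pushout.inl S.f ψ, τ₃ := 𝟙 _
      comm₁₂ := pushout.condition.symm
      comm₂₃ := (pushout.inl_desc _ _ _).trans (Category.comp_id _).symm }
  let one : Coh.HH X (Coh.structureModule X) 0 :=
    (Sheaf.H.equiv₀ (Coh.toAb (Coh.structureModule X)) isTerminalTop).symm (H23.Frame.one ⊤)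
  let t : Coh.HH X S.X₃ 0 := mapLin A e.inv 0 one
  have h0 : deltaLin A hS' 0 t = 0 := by
    refine Eq.trans ?_ (h t)
    refine ((QCoh.Ab.connecting_naturality (X := X.toPresheafedSpace.carrier) (QCoh.toAb_shortExact hS)
      (QCoh.toAb_shortExact hS') ((QCoh.toAbFunctor X).mapShortComplex.map Φ) 0 t).trans ?_).symm
    show deltaLin A hS' 0 (mapLin A (𝟙 S.X₃) 0 t) = _
    rw [mapLin_id']
  obtain ⟨u, hu⟩ := PnCoh.Finite.exists_of_deltaLin_eq_zero A hS' 0 h0
  let s : S.X₃ ⟶ pushout S.f ψ := e.hom ≫ CurveSpecial.homOfClass u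
  have hs : s ≫ S'.g = 𝟙 S.X₃ := by
    have h1 : CurveSpecial.homOfClass u ≫ S'.g = e.inv := by
      refine CurveRR.hom_ext_one ?_
      show S'.g.app ⊤ ((CurveSpecial.homOfClass u).app ⊤ (H23.Frame.one ⊤)) = _
      rw [CurveSpecial.homOfClass_one]
      refine (Sheaf.H.equiv₀_naturality isTerminalTop ((QCoh.toAbFunctor X).map S'.g) u).trans ?_
      refine (congrArg (Sheaf.H.equiv₀ (Coh.toAb S.X₃) isTerminalTop) hu).trans ?_
      refine (Sheaf.H.equiv₀_naturality isTerminalTop ((QCoh.toAbFunctor X).map e.inv) one).symm.trans ?_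
      exact congrArg (e.inv.app ⊤) (AddEquiv.apply_symm_apply _ _)
    rw [Category.assoc, h1, e.hom_inv_id]
  haveI : Mono S'.f := hS'.mono_f
  let σ := ShortComplex.Splitting.ofExactOfSection S' hS'.exact s hs inferInstance
  refine ⟨pushout.inl S.f ψ ≫ σ.r, ?_⟩
  rw [pushout.condition_assoc]
  exact (congrArg (ψ ≫ ·) σ.f_r).trans (Category.comp_id _)

theorem smul_apply_mapLin {X : Scheme.{u}} (A : Type u) [CommRing A] [X.Over (Spec (CommRingCat.of A))]
    {M : X.Modules} (c : A) (q : ℕ) (x : Coh.HH X M q) :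
    mapLin A (Formal.smulMod A M c) q x = c • x := rfl

variable {n : ℕ} {k : Type u} [Field k]

theorem hom_O_Z_eq_zero (hn : 1 ≤ n) (φ : O n k 1 ⟶ Z n k 1) : φ = 0 := by
  let E := PnDual.twistEquivalence (𝒜 := CohB1.polyGrading n k) (Xc n k) (Xc_mem n k) (iSup_Xc n k) 1 (-1)
    (add_neg_cancel 1)
  haveI : (Tw n k 1).Faithful := inferInstanceAs E.functor.Faithful
  haveI : Subsingleton (Coh.HH (CohB1.ProjSpace n k) ((Tw n k 1).obj (Z n k 1)) 0) := by
    obtain ⟨h1, h2⟩ := finrank_Z_zero (k := k) hn (d := 1) le_rfl (isTw_Tw n k 1) 1 hn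
    haveI := h1
    exact Module.finrank_zero_iff.1 (h2.trans (by simp [bott]))
  apply (Tw n k 1).map_injective
  obtain ⟨e⟩ := (isTw_Tw n k 1).obj_O 1
  let i : Coh.structureModule (CohB1.ProjSpace n k) ≅ (Tw n k 1).obj (O n k 1) :=
    @asIso _ _ _ _ _ (PnCoh.Finite.isIso_oneHom (𝒜 := CohB1.polyGrading n k) (Xc n k) (Xc_mem n k) (iSup_Xc n k)) ≪≫
      eqToIso (by simp; rfl) ≪≫ e.symm
  rw [Functor.map_zero, ← cancel_epi i.hom, comp_zero]
  exact hom_eq_zero_of_h0 ‹_› _

theorem hom_W_Z_eq_zero (hn : 1 ≤ n) (η : W n k 1 ⟶ Z n k 1) : η = 0 :=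
  biproduct.hom_ext' _ _ fun S => (hom_O_Z_eq_zero hn _).trans comp_zero.symm

/-- The cycles in degree one are simple. -/
theorem exists_smul_Z_one (φ : Z n k 1 ⟶ Z n k 1) : ∃ c : k, φ = Formal.smulMod k (Z n k 1) c := by
  rcases Nat.eq_zero_or_pos n with rfl | hn
  · exact ⟨0, (isZero_Z 0 k Nat.one_pos).eq_of_src _ _⟩
  have hS := shortExact_sc n k 0
  obtain ⟨f⟩ := (Z_hodge (n := n) (A := k) 1 hn).2
  let e : Z n k 0 ≅ Coh.structureModule (CohB1.ProjSpace n k) :=
    haveI : Subsingleton (Idx n 0) := ((Nat.card_eq_one_iff_unique (α := Idx n 0)).1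
      (by rw [natCard_Idx, Nat.choose_zero_right])).1
    haveI : Unique (Idx n 0) := uniqueOfSubsingleton ((Nat.card_eq_one_iff_unique (α := Idx n 0)).1
      (by rw [natCard_Idx, Nat.choose_zero_right])).2.some
    biproductUniqueIso (fun _ : Idx n 0 => O n k 0) ≪≫ eqToIso (by rw [O]; simp; rfl) ≪≫
      (@asIso _ _ _ _ _ (PnCoh.Finite.isIso_oneHom (𝒜 := CohB1.polyGrading n k) (Xc n k) (Xc_mem n k) (iSup_Xc n k))).symm
  let g : Coh.HH (CohB1.ProjSpace n k) (Z n k 1) 1 := f.symm 1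
  refine ⟨f (mapLin k φ 1 g), ?_⟩
  let c := f (mapLin k φ 1 g)
  have hkill : ∀ x, mapLin k (φ - Formal.smulMod k (Z n k 1) c) 1 x = 0 := fun x => by
    have hx : x = f x • g := f.injective (by rw [map_smul, f.apply_symm_apply, smul_eq_mul, mul_one])
    have h2 : mapLin k (φ - Formal.smulMod k (Z n k 1) c) 1 g = 0 := by
      have h3 : mapLin k ((φ - Formal.smulMod k (Z n k 1) c) + Formal.smulMod k (Z n k 1) c) 1 g =
          mapLin k (φ - Formal.smulMod k (Z n k 1) c) 1 g + mapLin k (Formal.smulMod k (Z n k 1) c) 1 g := by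
        show Sheaf.H.map _ 1 g = _
        rw [Functor.map_add, Sheaf.H.map_add_apply]
        rfl
      rw [sub_add_cancel, smul_apply_mapLin, eq_comm, ← eq_sub_iff_add_eq] at h3
      rw [h3, sub_eq_zero]
      exact f.injective (by rw [map_smul, f.apply_symm_apply, smul_eq_mul, mul_one])
    rw [hx, map_smul, h2, smul_zero]
  obtain ⟨η, hη⟩ := exists_extend k hS e (φ - Formal.smulMod k (Z n k 1) c) fun t => hkill _
  rw [hom_W_Z_eq_zero hn η, comp_zero] at hη
  exact sub_eq_zero.1 hη.symm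

end Groth.Agent.OmegaPn
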